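import Cfsg.Agent.H590.Five.Rel

/-!
# The degree relation when one degree is divisible by `p` (helper590)

* `relE` : `e < p - 1`;
* `relF` : `e = p - 1`.
-/

set_option autoImplicit false

namespace Cfsg.Agent.H590.Five

/-- `v = m * u ± n`, `u ≡ ±1` modulo `p` -/
def Sol (p m n u v : ℕ) : Prop := (u % p = 1 ∧ v = m * u + n) ∨ (u % p = p - 1 ∧ v + n = m * u)

theorem mod_of_sub {p a : ℕ} (hp : 2 < p) (h : (p : ℤ) ∣ a - 1) : a % p = 1 := by
  have h1 : (a : ℤ) % p = 1 := by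
    have h2 : (a : ℤ) ≡ 1 [ZMOD p] := (Int.modEq_iff_dvd.2 (by
      have := dvd_neg.2 h
      rwa [neg_sub] at this))
    have h3 : (a : ℤ) % p = 1 % p := h2
    rw [h3]
    exact Int.emod_eq_of_lt (by norm_num) (by omega)
  exact_mod_cast h1

theorem mod_of_add {p a : ℕ} (hp : 2 < p) (h : (p : ℤ) ∣ a + 1) : a % p = p - 1 := by
  have h1 : p ∣ a + 1 := by exact_mod_cast h
  obtain ⟨k, hk⟩ := h1
  rcases k with _ | k
  · omega
  · have h6 : a = (p - 1) + p * k := by
      rw [Nat.mul_succ] at hk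
      omega
    rw [h6, Nat.add_mul_mod_self_left, Nat.mod_eq_of_lt (by omega)]

/-- small numbers are not divisible by `p` -/
theorem not_dvd_of_abs {p : ℕ} {z : ℤ} (h0 : z ≠ 0) (h1 : |z| < p) : ¬ (p : ℤ) ∣ z := fun h =>
  h0 (Int.eq_zero_of_abs_lt_dvd h h1)

theorem sign_abs {s : ℤ} (h : s = 1 ∨ s = -1) : |s| = 1 := by rcases h with rfl | rfl <;> rfl

theorem sign_sq {s : ℤ} (h : s = 1 ∨ s = -1) : s * s = 1 := by rcases h with rfl | rfl <;> rfl

/-- a nonexceptional degree is not exceptional -/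
theorem not_both {p e x : ℕ} (he : 2 ≤ e) (hep : e < p - 1) {s t : ℤ} (hs : s = 1 ∨ s = -1) (ht : t = 1 ∨ t = -1)
    (h1 : (p : ℤ) ∣ t * x - 1) (h2 : (p : ℤ) ∣ x + e * s) : False := by
  have h3 : (p : ℤ) ∣ t + e * s := by
    have h4 : (p : ℤ) ∣ t * (t * x - 1) := Dvd.dvd.mul_left h1 t
    have h5 := dvd_sub h2 h4
    have h6 : (x : ℤ) + e * s - t * (t * x - 1) = t + e * s := by
      have := sign_sq ht
      linear_combination (-(x : ℤ)) * this
    rwa [h6] at h5
  have he' : (2 : ℤ) ≤ e := by exact_mod_cast he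
  have hep' : (e : ℤ) + 1 < p := by
    have : e + 1 < p := by omega
    exact_mod_cast this
  refine not_dvd_of_abs ?_ ?_ h3
  · rcases hs with rfl | rfl <;> rcases ht with rfl | rfl <;> omega
  · rw [abs_lt]
    rcases hs with rfl | rfl <;> rcases ht with rfl | rfl <;> constructor <;> omega

/-- a degree divisible by `p` does not occur -/
theorem nc_eq_zero {p c nc : ℕ} (hp : p.Prime) (hc : p ∣ c) {sc : ℤ} (h : nc ≠ 0 → (p : ℤ) ∣ sc * c - 1) : nc = 0 := by
  by_contra h0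
  have h1 : (p : ℤ) ∣ sc * c := Dvd.dvd.mul_left (by exact_mod_cast hc) sc
  have h2 : (p : ℤ) ∣ 1 := by
    have := dvd_sub h1 (h h0)
    rwa [sub_sub_cancel] at this
  have h3 : p ∣ 1 := by exact_mod_cast h2
  exact hp.one_lt.ne' (Nat.dvd_one.1 h3)

theorem f_ne {p e f c : ℕ} (he : 1 ≤ e) (hep : e < p) (hc : p ∣ c) {s : ℤ} (hs : s = 1 ∨ s = -1)
    (h : (p : ℤ) ∣ f + e * s) : f ≠ c := by
  rintro rfl
  have h1 : (p : ℤ) ∣ f := by exact_mod_cast hc
  have h2 : (p : ℤ) ∣ e * s := (dvd_add_right h1).1 h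
  have h3 : (p : ℤ) ∣ e := by
    rcases hs with rfl | rfl
    · simpa using h2
    · simpa using h2
  have h4 : p ∣ e := by exact_mod_cast h3
  exact absurd (Nat.le_of_dvd (by omega) h4) (by omega)

/-- one exceptional degree `a`, the degree `b` nonexceptional -/
theorem relE_aux {p e n₁ nb a b : ℕ} {sb s : ℤ} (hp : 2 < p) (hep : e < p - 1) (hsb : sb = 1 ∨ sb = -1)
    (hs : s = 1 ∨ s = -1) (hn : n₁ + nb = e) (hn1 : 1 ≤ n₁) (hb : nb ≠ 0 → (p : ℤ) ∣ sb * b - 1)
    (heq : n₁ + sb * nb * b + s * a = 0) : (n₁ = e ∧ a = e) ∨ (n₁ < e ∧ Sol p (e - n₁) n₁ b a) := by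
  have hnb : e - n₁ = nb := by omega
  rw [hnb]
  by_cases h0 : nb = 0
  · left
    subst h0
    refine ⟨by omega, ?_⟩
    rcases hs with rfl | rfl
    · push_cast at heq
      omega
    · push_cast at heq
      omega
  right
  refine ⟨by omega, ?_⟩
  have hb' := hb h0
  rcases hsb with rfl | rfl
  · left
    rw [one_mul] at hb'
    refine ⟨mod_of_sub hp hb', ?_⟩
    have h1 : (0 : ℤ) ≤ nb * b := by positivity
    rcases hs with rfl | rfl
    · exfalso
      have : (1 : ℤ) ≤ n₁ := by exact_mod_cast hn1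
      have : (0 : ℤ) ≤ a := by positivity
      linarith
    · have : (a : ℤ) = nb * b + n₁ := by linarith
      exact_mod_cast this
  · right
    have hb2 : (p : ℤ) ∣ (b : ℤ) + 1 := by
      have := dvd_neg.2 hb'
      rwa [show -(-1 * (b : ℤ) - 1) = b + 1 by ring] at this
    have hmod := mod_of_add hp hb2
    refine ⟨hmod, ?_⟩
    have hbp : p - 1 ≤ b := by
      rw [← hmod]
      exact Nat.mod_le _ _
    have h1 : (n₁ : ℤ) < nb * b := by
      have h2 : p - 1 ≤ nb * b := hbp.trans (Nat.le_mul_of_pos_left b (Nat.pos_of_ne_zero h0))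
      have h3 : n₁ < nb * b := by omega
      exact_mod_cast h3
    rcases hs with rfl | rfl
    · have : (a : ℤ) + n₁ = nb * b := by linarith
      exact_mod_cast this
    · exfalso
      have : (0 : ℤ) ≤ a := by positivity
      linarith

/-- **The relation, `e < p - 1`.** -/
theorem relE {p e idx a b c : ℕ} (hp : p.Prime) (he : 2 ≤ e) (hep : e < p - 1) (hc : p ∣ c)
    (h : Rel p e idx a b c) : ∃ n₁, 1 ≤ n₁ ∧ n₁ ≤ idx ∧ ((n₁ = e ∧ (a = e ∨ b = e)) ∨ (n₁ < e ∧
      (Sol p (e - n₁) n₁ a b ∨ Sol p (e - n₁) n₁ b a))) := by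
  obtain ⟨n₁, na, nb, nc, sa, sb, sc, s, f, h1, h2, -, h4, hsa, hsb, -, hs, hna, hnb, hnc, hf, hfe, heq⟩ := h
  have hp2 : 2 < p := by omega
  have hnc0 := nc_eq_zero hp hc hnc
  subst hnc0
  have hfc := f_ne (by omega) (by omega) hc hs hfe
  have heq' : (n₁ : ℤ) + sa * na * a + sb * nb * b + s * f = 0 := by
    push_cast at heq
    linarith
  refine ⟨n₁, h1, h2, ?_⟩
  rcases hf with rfl | rfl | rfl | rfl
  · exfalso
    exact not_both (x := 1) (t := 1) he hep hs (Or.inl rfl) (by simp) (by simpa using hfe)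
  · -- `f = a`
    have hna0 : na = 0 := by
      by_contra h0
      exact not_both he hep hs hsa (hna h0) hfe
    subst hna0
    have h5 : (n₁ : ℤ) + sb * nb * b + s * f = 0 := by
      push_cast at heq'
      linarith
    rcases relE_aux hp2 hep hsb hs (by omega) h1 hnb h5 with h6 | h6
    · exact Or.inl ⟨h6.1, Or.inl h6.2⟩
    · exact Or.inr ⟨h6.1, Or.inr h6.2⟩
  · -- `f = b`
    have hnb0 : nb = 0 := by
      by_contra h0
      exact not_both he hep hs hsb (hnb h0) hfe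
    subst hnb0
    have h5 : (n₁ : ℤ) + sa * na * a + s * f = 0 := by
      push_cast at heq'
      linarith
    rcases relE_aux hp2 hep hsa hs (by omega) h1 hna h5 with h6 | h6
    · exact Or.inl ⟨h6.1, Or.inr h6.2⟩
    · exact Or.inr ⟨h6.1, Or.inl h6.2⟩
  · exact absurd rfl hfc

/-- the conclusion for `e = p - 1` from the total multiplicities -/
theorem relF_aux {p idx n x y a b : ℕ} {sa sb : ℤ} (hp : 5 ≤ p) (hidx : idx ≤ 2) (hn1 : 1 ≤ n) (hn : n ≤ idx)
    (hsum : n + x + y = p) (hsa : sa = 1 ∨ sa = -1) (hsb : sb = 1 ∨ sb = -1) (ha : x ≠ 0 → (p : ℤ) ∣ sa * a - 1)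
    (hb : y ≠ 0 → (p : ℤ) ∣ sb * b - 1) (heq : (n : ℤ) + sa * x * a + sb * y * b = 0) :
    1 ≤ x ∧ 1 ≤ y ∧ ((a % p = 1 ∧ b % p = p - 1 ∧ n + x * a = y * b) ∨
      (b % p = 1 ∧ a % p = p - 1 ∧ n + y * b = x * a)) := by
  have hp2 : 2 < p := by omega
  -- a negative degree is large
  have hneg : ∀ {w t : ℕ}, t ≠ 0 → (p : ℤ) ∣ (-1 : ℤ) * w - 1 → w % p = p - 1 ∧ n < t * w := by
    intro w t ht hw
    have h1 : (p : ℤ) ∣ (w : ℤ) + 1 := by
      have := dvd_neg.2 hw
      rwa [show -(-1 * (w : ℤ) - 1) = w + 1 by ring] at this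
    have h2 := mod_of_add hp2 h1
    have h3 : p - 1 ≤ w := by
      rw [← h2]
      exact Nat.mod_le _ _
    refine ⟨h2, ?_⟩
    have h4 : w ≤ t * w := Nat.le_mul_of_pos_left w (Nat.pos_of_ne_zero ht)
    omega
  have hpos : ∀ {w : ℕ}, (p : ℤ) ∣ (1 : ℤ) * w - 1 → w % p = 1 := by
    intro w hw
    rw [one_mul] at hw
    exact mod_of_sub hp2 hw
  have hn1' : (1 : ℤ) ≤ n := by exact_mod_cast hn1
  by_cases hx : x = 0
  · exfalso
    subst hx
    have hy : y ≠ 0 := by omega
    have heq' : (n : ℤ) + sb * y * b = 0 := by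
      push_cast at heq
      linarith
    rcases hsb with rfl | rfl
    · have : (0 : ℤ) ≤ (y : ℤ) * b := by positivity
      linarith
    · have h1 := (hneg hy (hb hy)).2
      have h2 : (n : ℤ) < y * b := by exact_mod_cast h1
      linarith
  by_cases hy : y = 0
  · exfalso
    subst hy
    have heq' : (n : ℤ) + sa * x * a = 0 := by
      push_cast at heq
      linarith
    rcases hsa with rfl | rfl
    · have : (0 : ℤ) ≤ (x : ℤ) * a := by positivity
      linarith
    · have h1 := (hneg hx (ha hx)).2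
      have h2 : (n : ℤ) < x * a := by exact_mod_cast h1
      linarith
  refine ⟨Nat.pos_of_ne_zero hx, Nat.pos_of_ne_zero hy, ?_⟩
  have hxa : (0 : ℤ) ≤ (x : ℤ) * a := by positivity
  have hyb : (0 : ℤ) ≤ (y : ℤ) * b := by positivity
  rcases hsa with rfl | rfl <;> rcases hsb with rfl | rfl
  · exfalso
    linarith
  · left
    refine ⟨hpos (ha hx), (hneg hy (hb hy)).1, ?_⟩
    have : (n : ℤ) + x * a = y * b := by linarith
    exact_mod_cast this
  · right
    refine ⟨hpos (hb hy), (hneg hx (ha hx)).1, ?_⟩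
    have : (n : ℤ) + y * b = x * a := by linarith
    exact_mod_cast this
  · exfalso
    have h1 : (n : ℤ) < x * a := by exact_mod_cast (hneg hx (ha hx)).2
    linarith

/-- **The relation, `e = p - 1`.** -/
theorem relF {p idx a b c : ℕ} (hp : p.Prime) (hp5 : 5 ≤ p) (hidx : idx ≤ 2) (hc : p ∣ c)
    (h : Rel p (p - 1) idx a b c) : ∃ n x y, 1 ≤ n ∧ n ≤ idx ∧ n + x + y = p ∧ 1 ≤ x ∧ 1 ≤ y ∧
      ((a % p = 1 ∧ b % p = p - 1 ∧ n + x * a = y * b) ∨ (b % p = 1 ∧ a % p = p - 1 ∧ n + y * b = x * a)) := by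
  obtain ⟨n₁, na, nb, nc, sa, sb, sc, s, f, h1, h2, h3, h4, hsa, hsb, -, hs, hna, hnb, hnc, hf, hfe, heq⟩ := h
  have hnc0 := nc_eq_zero hp hc hnc
  subst hnc0
  have hfc := f_ne (by omega) (by omega) hc hs hfe
  have heq' : (n₁ : ℤ) + sa * na * a + sb * nb * b + s * f = 0 := by
    push_cast at heq
    linarith
  -- `f ≡ s`
  have hfs : (p : ℤ) ∣ f - s := by
    have h5 : ((p - 1 : ℕ) : ℤ) = p - 1 := by
      have : 1 ≤ p := by omega
      push_cast [this]
      ring
    rw [h5] at hfe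
    have h6 := dvd_sub hfe (dvd_mul_right (p : ℤ) s)
    rwa [show (f : ℤ) + (p - 1) * s - p * s = f - s by ring] at h6
  have hsame : ∀ {t : ℤ}, (t = 1 ∨ t = -1) → (p : ℤ) ∣ t * f - 1 → t = s := by
    intro t ht h5
    by_contra hne
    have h6 : (p : ℤ) ∣ t * (f - s) := Dvd.dvd.mul_left hfs t
    have h7 := dvd_sub h6 h5
    rw [show t * ((f : ℤ) - s) - (t * f - 1) = 1 - t * s by ring] at h7
    have h8 : 1 - t * s = 2 := by
      rcases hs with rfl | rfl <;> rcases ht with rfl | rfl <;> first | rfl | exact absurd rfl hne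
    rw [h8] at h7
    exact not_dvd_of_abs (by norm_num) (by
      rw [abs_of_pos (by norm_num : (0 : ℤ) < 2)]
      exact_mod_cast (by omega : 2 < p)) h7
  have hsf : (p : ℤ) ∣ s * f - 1 := by
    have h5 : (p : ℤ) ∣ s * (f - s) := Dvd.dvd.mul_left hfs s
    have h6 : s * ((f : ℤ) - s) = s * f - 1 := by
      have := sign_sq hs
      linear_combination (-1 : ℤ) * this
    rwa [h6] at h5
  rcases hf with rfl | rfl | rfl | rfl
  · -- `f = 1`
    have hs1 : (1 : ℤ) = s := hsame (Or.inl rfl) (by simp)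
    subst hs1
    have h5 : ((n₁ + 1 : ℕ) : ℤ) + sa * na * a + sb * nb * b = 0 := by
      push_cast
      push_cast at heq'
      linarith
    obtain ⟨h6, h7, h8⟩ := relF_aux hp5 hidx (by omega) (h3 rfl) (by omega) hsa hsb hna hnb h5
    exact ⟨n₁ + 1, na, nb, by omega, h3 rfl, by omega, h6, h7, h8⟩
  · -- `f = a`
    have h5 : (n₁ : ℤ) + s * ((na + 1 : ℕ) : ℤ) * f + sb * nb * b = 0 := by
      by_cases h0 : na = 0
      · subst h0
        push_cast
        push_cast at heq'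
        linarith
      · have := hsame hsa (hna h0)
        subst this
        push_cast
        linarith
    obtain ⟨h6, h7, h8⟩ := relF_aux hp5 hidx h1 h2 (by omega) hs hsb (fun _ => hsf) hnb h5
    exact ⟨n₁, na + 1, nb, h1, h2, by omega, h6, h7, h8⟩
  · -- `f = b`
    have h5 : (n₁ : ℤ) + sa * na * a + s * ((nb + 1 : ℕ) : ℤ) * f = 0 := by
      by_cases h0 : nb = 0
      · subst h0
        push_cast
        push_cast at heq'
        linarith
      · have := hsame hsb (hnb h0)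
        subst this
        push_cast
        linarith
    obtain ⟨h6, h7, h8⟩ := relF_aux hp5 hidx h1 h2 (by omega) hsa hs hna (fun _ => hsf) h5
    exact ⟨n₁, na, nb + 1, h1, h2, by omega, h6, h7, h8⟩
  · exact absurd rfl hfc

end Cfsg.Agent.H590.Five
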