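import Cfsg.Agent.H638.FD.Blk

/-!
# Principal blocks with cyclic defect group and few character degrees, with the number of linear characters (helper590)

`degs` : `H638.FD.Blk.degs` with two more conclusions: `e ∣ p - 1`, and if the exceptional degree `f` is 1 then there is
one more linear character.
-/

set_option autoImplicit false
set_option linter.unusedSectionVars false

namespace Cfsg.Agent.H590.Five.Blk2

open Cfsg Cfsg.Agent.Characters Cfsg.Agent.Blocks Cfsg.Agent.H638.FD.Blk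

universe u

variable {G : Type u} [Group G] [Finite G] {p : ℕ} [hp : Fact p.Prime]

/-- Counting in the principal block of a group with few character degrees. -/
theorem degs (h2 : p ≠ 2) (P : Sylow p G) (hP : IsCyclic P) {k : ℕ} (hk : 1 ≤ k)
    (hc : Nat.card P = p ^ k) {e : ℕ}
    (he : (Subgroup.centralizer ((P : Subgroup G) : Set G)).relIndex (Subgroup.normalizer ((P : Subgroup G) : Set G)) = e)
    (hN : ∀ N : Subgroup G, N.Normal → N.index ≠ p) {a b c : ℕ} (hcd : charDegrees G ⊆ {1, a, b, c})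
    (ha : a ≠ 1) (hb : b ≠ 1) (hc' : c ≠ 1) (hab : a ≠ b) (hac : a ≠ c) (hbc : b ≠ c) :
    e ∣ p - 1 ∧ ∃ (n₁ na nb nc : ℕ) (sa sb sc s : ℤ) (f : ℕ), 1 ≤ n₁ ∧ n₁ ≤ (commutator G).index ∧
      (f = 1 → n₁ + 1 ≤ (commutator G).index) ∧ n₁ + na + nb + nc = e ∧
      (sa = 1 ∨ sa = -1) ∧ (sb = 1 ∨ sb = -1) ∧ (sc = 1 ∨ sc = -1) ∧ (s = 1 ∨ s = -1) ∧
      (na ≠ 0 → (p : ℤ) ^ k ∣ sa * a - 1) ∧ (nb ≠ 0 → (p : ℤ) ^ k ∣ sb * b - 1) ∧
      (nc ≠ 0 → (p : ℤ) ^ k ∣ sc * c - 1) ∧ (f = 1 ∨ f = a ∨ f = b ∨ f = c) ∧ (p : ℤ) ^ k ∣ f + e * s ∧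
      n₁ + sa * na * a + sb * nb * b + sc * nc * c + s * f = 0 := by
  classical
  have hpp : p.Prime := hp.out
  have : Fintype (IrrCharacter G) := @Fintype.ofFinite _ Core.finite_irr
  obtain ⟨M, hM⟩ := ExistsModular.exists_isPModular hpp
  obtain ⟨hep, X, Y, δ, δ₀, hB, hd, hX, hY, h1X, hδ1, hδ, hδ₀, hcX, hcY, hsum⟩ := struct hM P hP hk hc he hN
  have hpk : (2 : ℤ) < (p : ℤ) ^ k := by
    have h3 : 3 ≤ p := by
      rcases hpp.eq_two_or_odd' with h | h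
      · exact absurd h h2
      · rcases h with ⟨m, hm⟩; have := hpp.two_le; omega
    have h4 : p ^ 1 ≤ p ^ k := Nat.pow_le_pow_right hpp.pos hk
    rw [pow_one] at h4
    have h5 : 2 < p ^ k := by omega
    exact_mod_cast h5
  -- the sign depends only on the degree
  have hsgn : ∀ χ ∈ X, ∀ χ' ∈ X, charDegree (χ : G → ℂ) = charDegree (χ' : G → ℂ) → δ χ = δ χ' := by
    intro χ hχ χ' hχ' hdeg
    have h3 := hcX χ hχ
    have h4 := hcX χ' hχ'
    rw [← hdeg] at h4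
    rcases hδ χ hχ with h | h <;> rcases hδ χ' hχ' with h' | h' <;> rw [h, h'] <;> exfalso
    · rw [h] at h3; rw [h'] at h4
      have h5 := dvd_add h3 h4
      have h6 : 1 * (charDegree (χ : G → ℂ) : ℤ) - 1 + (-1 * (charDegree (χ : G → ℂ) : ℤ) - 1) = -2 := by ring
      rw [h6, dvd_neg] at h5
      exact absurd (Int.le_of_dvd (by norm_num) h5) (by omega)
    · rw [h] at h3; rw [h'] at h4
      have h5 := dvd_add h3 h4
      have h6 : -1 * (charDegree (χ : G → ℂ) : ℤ) - 1 + (1 * (charDegree (χ : G → ℂ) : ℤ) - 1) = -2 := by ring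
      rw [h6, dvd_neg] at h5
      exact absurd (Int.le_of_dvd (by norm_num) h5) (by omega)
  have hmem : ∀ χ : IrrCharacter G, charDegree (χ : G → ℂ) = 1 ∨ charDegree (χ : G → ℂ) = a ∨
      charDegree (χ : G → ℂ) = b ∨ charDegree (χ : G → ℂ) = c := by
    intro χ
    have h3 := hcd ⟨χ, rfl⟩
    simpa using h3
  -- the sum over a degree
  let D : ℕ → Finset (IrrCharacter G) := fun d => X.filter fun χ => charDegree (χ : G → ℂ) = d
  have hS : ∀ d : ℕ, ∃ s : ℤ, (s = 1 ∨ s = -1) ∧ (∀ χ ∈ D d, δ χ = s) := by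
    intro d
    by_cases hne : (D d).Nonempty
    · obtain ⟨χ, hχ⟩ := hne
      have h3 := Finset.mem_filter.1 hχ
      refine ⟨δ χ, hδ χ h3.1, fun χ' hχ' => ?_⟩
      have h4 := Finset.mem_filter.1 hχ'
      exact hsgn _ h4.1 _ h3.1 (by rw [h4.2, h3.2])
    · rw [Finset.not_nonempty_iff_eq_empty] at hne
      exact ⟨1, Or.inl rfl, by rw [hne]; simp⟩
  have hDsum : ∀ d : ℕ, ∀ s : ℤ, (∀ χ ∈ D d, δ χ = s) →
      ∑ χ ∈ D d, δ χ * (charDegree (χ : G → ℂ) : ℤ) = s * (D d).card * d := by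
    intro d s hs
    have h3 : ∀ χ ∈ D d, δ χ * (charDegree (χ : G → ℂ) : ℤ) = s * d := by
      intro χ hχ
      rw [hs χ hχ, (Finset.mem_filter.1 hχ).2]
    rw [Finset.sum_congr rfl h3, Finset.sum_const, nsmul_eq_mul]; ring
  have hXd : X = D 1 ∪ (D a ∪ (D b ∪ D c)) := by
    ext χ
    simp only [D, Finset.mem_union, Finset.mem_filter]
    constructor
    · intro h3
      rcases hmem χ with h | h | h | h
      · exact Or.inl ⟨h3, h⟩
      · exact Or.inr (Or.inl ⟨h3, h⟩)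
      · exact Or.inr (Or.inr (Or.inl ⟨h3, h⟩))
      · exact Or.inr (Or.inr (Or.inr ⟨h3, h⟩))
    · rintro (h | h | h | h) <;> exact h.1
  have hdisj : ∀ d d' : ℕ, d ≠ d' → Disjoint (D d) (D d') := by
    intro d d' hdd
    rw [Finset.disjoint_left]
    intro χ h3 h4
    exact hdd ((Finset.mem_filter.1 h3).2.symm.trans (Finset.mem_filter.1 h4).2)
  have hdj1 : Disjoint (D b) (D c) := hdisj _ _ hbc
  have hdj2 : Disjoint (D a) (D b ∪ D c) := Finset.disjoint_union_right.2 ⟨hdisj _ _ hab, hdisj _ _ hac⟩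
  have hdj3 : Disjoint (D 1) (D a ∪ (D b ∪ D c)) := Finset.disjoint_union_right.2
    ⟨hdisj _ _ ha.symm, Finset.disjoint_union_right.2 ⟨hdisj _ _ hb.symm, hdisj _ _ hc'.symm⟩⟩
  obtain ⟨sa, hsa, hsa'⟩ := hS a
  obtain ⟨sb, hsb, hsb'⟩ := hS b
  obtain ⟨sc, hsc, hsc'⟩ := hS c
  have hs1 : ∀ χ ∈ D 1, δ χ = 1 := by
    intro χ hχ
    have h3 := Finset.mem_filter.1 hχ
    rw [← hδ1]
    exact hsgn _ h3.1 _ h1X (by rw [h3.2, deg_one])
  have hYne : Y.Nonempty := by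
    rw [← Finset.card_pos, hY]
    apply Nat.div_pos
    · have hp1 : 0 < p - 1 := Nat.sub_pos_of_lt hpp.one_lt
      have h3 : e ≤ p - 1 := Nat.le_of_dvd hp1 hep
      have h4 : p ^ 1 ≤ p ^ k := Nat.pow_le_pow_right hpp.pos hk
      rw [pow_one] at h4
      omega
    · rw [← hX]; exact Finset.card_pos.2 ⟨_, h1X⟩
  obtain ⟨ψ, hψ⟩ := hYne
  have hcongr : ∀ d : ℕ, ∀ s : ℤ, (∀ χ ∈ D d, δ χ = s) → (D d).card ≠ 0 → (p : ℤ) ^ k ∣ s * d - 1 := by
    intro d s hs hne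
    obtain ⟨χ, hχ⟩ := Finset.card_ne_zero.1 hne
    have h3 := Finset.mem_filter.1 hχ
    have h4 := hcX χ h3.1
    rwa [hs χ hχ, h3.2] at h4
  refine ⟨hep, (D 1).card, (D a).card, (D b).card, (D c).card, sa, sb, sc, δ₀, charDegree (ψ : G → ℂ), ?_, ?_, ?_, ?_, hsa, hsb,
    hsc, hδ₀, hcongr a sa hsa', hcongr b sb hsb', hcongr c sc hsc', hmem ψ, hcY ψ hψ, ?_⟩
  · exact Finset.card_pos.2 ⟨_, Finset.mem_filter.2 ⟨h1X, deg_one⟩⟩
  · rw [← card_linear]
    refine Finset.card_le_card fun χ hχ => ?_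
    exact Finset.mem_filter.2 ⟨Finset.mem_univ _, (Finset.mem_filter.1 hχ).2⟩
  · intro hf1
    have h3 : ψ ∉ D 1 := fun h => Finset.disjoint_left.1 hd (Finset.mem_filter.1 h).1 hψ
    rw [← card_linear, ← Finset.card_insert_of_notMem h3]
    refine Finset.card_le_card fun χ hχ => ?_
    rcases Finset.mem_insert.1 hχ with rfl | h
    · exact Finset.mem_filter.2 ⟨Finset.mem_univ _, hf1⟩
    · exact Finset.mem_filter.2 ⟨Finset.mem_univ _, (Finset.mem_filter.1 h).2⟩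
  · have h3 : X.card = (D 1).card + ((D a).card + ((D b).card + (D c).card)) := by
      conv_lhs => rw [hXd]
      rw [Finset.card_union_of_disjoint hdj3, Finset.card_union_of_disjoint hdj2, Finset.card_union_of_disjoint hdj1]
    omega
  · have h3 := hsum ψ hψ
    have h4 : ∑ χ ∈ X, δ χ * (charDegree (χ : G → ℂ) : ℤ) = ∑ χ ∈ D 1 ∪ (D a ∪ (D b ∪ D c)), δ χ * (charDegree (χ : G → ℂ) : ℤ) := by
      rw [← hXd]
    rw [h4, Finset.sum_union hdj3, Finset.sum_union hdj2, Finset.sum_union hdj1, hDsum 1 1 hs1, hDsum a sa hsa',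
      hDsum b sb hsb', hDsum c sc hsc'] at h3
    push_cast at h3
    linarith [h3]

end Cfsg.Agent.H590.Five.Blk2
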