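import Cfsg.Agent.H590.Five.RelTools

/-!
# The third degree from the relation for another prime (helper590)

`chkR_spec` : if `chkR q a b es ns P = true` (a finite computation) then `Rel q e idx a b d` implies `P d = true`.
-/

set_option autoImplicit false

namespace Cfsg.Agent.H590.Five.Cand

open Cfsg.Agent.H590.Five

/-- the absolute value of the difference -/
def ad (x y : ℕ) : ℕ := (x - y) + (y - x)

/-- `k * d = |pos - neg|` -/
def tst (P : ℕ → Bool) (k pos neg : ℕ) : Bool :=
  cond (Nat.beq k 0) (!(Nat.beq pos neg))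
    (cond (Nat.beq (Nat.mod (ad pos neg) k) 0) (P (Nat.div (ad pos neg) k)) true)

theorem tst_spec {P : ℕ → Bool} {k pos neg d : ℕ} {t : ℤ} (h : tst P k pos neg = true) (ht : t = 1 ∨ t = -1)
    (he : (pos : ℤ) - neg = t * (k * d)) : P d = true := by
  unfold tst at h
  rcases Nat.eq_zero_or_pos k with rfl | hk
  · exfalso
    have h1 : pos = neg := by
      have : (pos : ℤ) - neg = 0 := by rw [he]; simp
      omega
    rw [h1, show Nat.beq 0 0 = true from rfl, Nat.beq_refl] at h
    exact Bool.noConfusion h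
  · obtain ⟨w, hw⟩ : ∃ w : ℕ, w = k * d := ⟨_, rfl⟩
    have h2 : ad pos neg = k * d := by
      have h3 : (pos : ℤ) - neg = t * w := by
        rw [he, hw]
        push_cast
        ring
      rw [← hw]
      unfold ad
      rcases ht with rfl | rfl <;> omega
    rw [h2, beq_false hk.ne', show Nat.beq (Nat.mod (k * d) k) 0 = true from beq_of (Nat.mul_mod_right k d),
      show Nat.div (k * d) k = d from Nat.mul_div_cancel_left d hk] at h
    exact h

/-- the test for the exceptional degree `f` -/
def tf (P : ℕ → Bool) (q e nd pos neg f : ℕ) : Bool :=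
  (cond (Nat.beq (Nat.mod (Nat.add f e) q) 0) (tst P nd (Nat.add pos f) neg) true) &&
    (cond (Nat.beq (Nat.mod f q) (Nat.mod e q)) (tst P nd pos (Nat.add neg f)) true)

/-- all tests for given multiplicities -/
def inner (P : ℕ → Bool) (q e a b nd pos neg : ℕ) : Bool :=
  tst P (nd + 1) pos neg && cond (Nat.beq nd 0) true (tst P (nd - 1) pos neg) &&
    (tf P q e nd pos neg 1 && tf P q e nd pos neg a && tf P q e nd pos neg b)

/-- adding `± na * a` -/
def addT (q a na pos neg : ℕ) (k : ℕ → ℕ → Bool) : Bool :=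
  cond (Nat.beq na 0) (k pos neg) (cond (Nat.beq (Nat.mod a q) 1) (k (pos + na * a) neg)
    (cond (Nat.beq (Nat.mod a q) (Nat.sub q 1)) (k pos (neg + na * a)) true))

theorem tf_spec {P : ℕ → Bool} {q e nd pos neg f d : ℕ} {s sd : ℤ} (h : tf P q e nd pos neg f = true)
    (hs : s = 1 ∨ s = -1) (hsd : sd = 1 ∨ sd = -1) (hfe : (q : ℤ) ∣ f + e * s)
    (he : (pos : ℤ) - neg + sd * nd * d + s * f = 0) : P d = true := by
  unfold tf at h
  rw [Bool.and_eq_true] at h
  rcases hs with rfl | rfl
  · have h1 : q ∣ f + e := by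
      rw [mul_one] at hfe
      exact_mod_cast hfe
    have h2 := h.1
    rw [show Nat.beq (Nat.mod (Nat.add f e) q) 0 = true from beq_of (Nat.mod_eq_zero_of_dvd h1)] at h2
    rcases hsd with rfl | rfl
    · refine tst_spec h2 (t := -1) (Or.inr rfl) ?_
      show ((pos + f : ℕ) : ℤ) - neg = _
      push_cast
      linarith
    · refine tst_spec h2 (t := 1) (Or.inl rfl) ?_
      show ((pos + f : ℕ) : ℤ) - neg = _
      push_cast
      linarith
  · have h1 : f % q = e % q := by
      rw [mul_neg, mul_one, ← sub_eq_add_neg] at hfe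
      exact ((Int.natCast_modEq_iff).1 ((Int.modEq_iff_dvd).2 hfe)).symm
    have h2 := h.2
    rw [show Nat.beq (Nat.mod f q) (Nat.mod e q) = true from beq_of h1] at h2
    rcases hsd with rfl | rfl
    · refine tst_spec h2 (t := -1) (Or.inr rfl) ?_
      show (pos : ℤ) - ((neg + f : ℕ) : ℤ) = _
      push_cast
      linarith
    · refine tst_spec h2 (t := 1) (Or.inl rfl) ?_
      show (pos : ℤ) - ((neg + f : ℕ) : ℤ) = _
      push_cast
      linarith

theorem inner_spec {P : ℕ → Bool} {q e a b nd pos neg f d : ℕ} {s sd : ℤ} (h : inner P q e a b nd pos neg = true)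
    (hs : s = 1 ∨ s = -1) (hsd : sd = 1 ∨ sd = -1) (hfe : (q : ℤ) ∣ f + e * s)
    (hf : f = 1 ∨ f = a ∨ f = b ∨ f = d)
    (he : (pos : ℤ) - neg + sd * nd * d + s * f = 0) : P d = true := by
  unfold inner at h
  simp only [Bool.and_eq_true] at h
  obtain ⟨⟨h1, h2⟩, ⟨h3, h4⟩, h5⟩ := h
  rcases hf with rfl | rfl | rfl | rfl
  · exact tf_spec h3 hs hsd hfe he
  · exact tf_spec h4 hs hsd hfe he
  · exact tf_spec h5 hs hsd hfe he
  · -- `f = d`
    by_cases hss : s = sd
    · subst hss
      refine tst_spec h1 (t := -s) (by rcases hs with rfl | rfl <;> simp) ?_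
      push_cast
      linear_combination he
    · have hsd' : sd = -s := by
        rcases hs with rfl | rfl <;> rcases hsd with rfl | rfl <;> first | rfl | exact absurd rfl hss
      subst hsd'
      by_cases h0 : nd = 0
      · subst h0
        refine tst_spec h1 (t := -s) (by rcases hs with rfl | rfl <;> simp) ?_
        push_cast
        push_cast at he
        linear_combination he
      · rw [beq_false h0] at h2
        obtain ⟨k, rfl⟩ : ∃ k, nd = k + 1 := ⟨nd - 1, by omega⟩
        refine tst_spec h2 (t := s) hs ?_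
        rw [Nat.add_sub_cancel]
        push_cast at he
        linear_combination he

theorem addT_spec {q a na pos neg : ℕ} {k : ℕ → ℕ → Bool} {sa : ℤ} (hq : 2 < q) (h : addT q a na pos neg k = true)
    (hsa : sa = 1 ∨ sa = -1) (ha : na ≠ 0 → (q : ℤ) ∣ sa * a - 1) :
    ∃ pos' neg' : ℕ, k pos' neg' = true ∧ (pos' : ℤ) - neg' = pos - neg + sa * na * a := by
  unfold addT at h
  by_cases h0 : na = 0
  · subst h0
    exact ⟨pos, neg, h, by push_cast; ring⟩
  rw [beq_false h0] at h
  have h1 := ha h0
  rcases hsa with rfl | rfl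
  · rw [one_mul] at h1
    have h2 := mod_of_sub hq h1
    rw [show Nat.beq (Nat.mod a q) 1 = true from beq_of h2] at h
    exact ⟨_, _, h, by push_cast; ring⟩
  · have h2 : (q : ℤ) ∣ (a : ℤ) + 1 := by
      have := dvd_neg.2 h1
      rwa [show -(-1 * (a : ℤ) - 1) = a + 1 by ring] at this
    have h3 := mod_of_add hq h2
    rw [show Nat.beq (Nat.mod a q) 1 = false from beq_false (show a % q ≠ 1 by omega),
      show Nat.beq (Nat.mod a q) (Nat.sub q 1) = true from beq_of h3] at h
    exact ⟨_, _, h, by push_cast; ring⟩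

/-- the check -/
def chkR (q a b : ℕ) (es ns : List ℕ) (P : ℕ → Bool) : Bool :=
  es.all fun e => ns.all fun n₁ => (List.range (e + 1)).all fun na => (List.range (e + 1)).all fun nb =>
    cond (Nat.ble (n₁ + na + nb) e)
      (addT q a na n₁ 0 fun pos neg => addT q b nb pos neg fun pos neg =>
        inner P q e a b (e - (n₁ + na + nb)) pos neg) true

theorem chkR_spec {q e idx a b d : ℕ} {es ns : List ℕ} {P : ℕ → Bool} (hq : 2 < q) (h : chkR q a b es ns P = true)
    (he : e ∈ es) (hns : ∀ n, 1 ≤ n → n ≤ idx → n ∈ ns) (hR : Rel q e idx a b d) : P d = true := by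
  obtain ⟨n₁, na, nb, nc, sa, sb, sc, s, f, g1, g2, -, g4, hsa, hsb, hsc, hs, hna, hnb, hnc, hf, hfe, heq⟩ := hR
  unfold chkR at h
  have h1 := List.all_eq_true.1 (List.all_eq_true.1 (List.all_eq_true.1 (List.all_eq_true.1 h e he) n₁ (hns _ g1 g2)) na
    (List.mem_range.2 (by omega))) nb (List.mem_range.2 (by omega))
  rw [show Nat.ble (n₁ + na + nb) e = true from Nat.ble_eq_true_of_le (by omega), cond_true] at h1
  obtain ⟨p1, q1, h2, h3⟩ := addT_spec hq h1 hsa hna
  obtain ⟨p2, q2, h4, h5⟩ := addT_spec hq h2 hsb hnb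
  have h6 : e - (n₁ + na + nb) = nc := by omega
  rw [h6] at h4
  refine inner_spec h4 hs hsc hfe hf ?_
  rw [h5, h3]
  push_cast
  linear_combination heq

end Cfsg.Agent.H590.Five.Cand
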