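import Cfsg.Agent.H590.Five.Main

/-!
# Enumeration of the pairs of degrees prime to `p` (helper590)

`form_spec` : if the check `chkForm` succeeds (by `decide +kernel`), then all divisors `a`, `b` of `N` with
`Form p e idx a b` satisfy `Q a b`.
-/

set_option autoImplicit false

namespace Cfsg.Agent.H590.Five

open Cfsg.Agent.H604.FD.Inner (chkD chkD_spec)

def stepE (N p m n : ℕ) (Q : ℕ → ℕ → Bool) (u : ℕ) : Bool :=
  cond (Nat.beq (Nat.mod u p) 1)
    (cond (Nat.beq (Nat.mod N (Nat.add (Nat.mul m u) n)) 0) (Q u (Nat.add (Nat.mul m u) n)) true)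
    (cond (Nat.beq (Nat.mod N (Nat.sub (Nat.mul m u) n)) 0) (Q u (Nat.sub (Nat.mul m u) n)) true)

theorem beq_of {a b : ℕ} (h : a = b) : Nat.beq a b = true := by rw [h]; exact Nat.beq_refl b

theorem beq_false {a b : ℕ} (h : a ≠ b) : Nat.beq a b = false := by
  rcases hb : Nat.beq a b with _ | _
  · rfl
  · exact absurd (Nat.eq_of_beq_eq_true hb) h

theorem stepE_spec {N p m n : ℕ} {Q : ℕ → ℕ → Bool} {u v : ℕ} (hp : 2 < p) (h : stepE N p m n Q u = true)
    (hs : Sol p m n u v) (hv : v ∣ N) : Q u v = true := by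
  unfold stepE at h
  rcases hs with ⟨h1, rfl⟩ | ⟨h1, h2⟩
  · rw [show Nat.beq (Nat.mod u p) 1 = true from beq_of h1] at h
    rw [show Nat.beq (Nat.mod N (Nat.add (Nat.mul m u) n)) 0 = true from beq_of (Nat.mod_eq_zero_of_dvd hv)] at h
    exact h
  · have h3 : v = m * u - n := by omega
    subst h3
    rw [show Nat.beq (Nat.mod u p) 1 = false from beq_false (show u % p ≠ 1 by omega)] at h
    rw [show Nat.beq (Nat.mod N (Nat.sub (Nat.mul m u) n)) 0 = true from beq_of (Nat.mod_eq_zero_of_dvd hv)] at h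
    exact h

def stepF (N p n x y : ℕ) (Q : ℕ → ℕ → Bool) (u : ℕ) : Bool :=
  cond (Nat.beq (Nat.mod (Nat.add n (Nat.mul x u)) y) 0)
    (cond (Nat.beq (Nat.mod (Nat.div (Nat.add n (Nat.mul x u)) y) p) (Nat.sub p 1))
      (cond (Nat.beq (Nat.mod N (Nat.div (Nat.add n (Nat.mul x u)) y)) 0)
        (Q u (Nat.div (Nat.add n (Nat.mul x u)) y)) true) true) true

theorem stepF_spec {N p n x y : ℕ} {Q : ℕ → ℕ → Bool} {u v : ℕ} (hy : 1 ≤ y) (h : stepF N p n x y Q u = true)
    (h1 : n + x * u = y * v) (h2 : v % p = p - 1) (hv : v ∣ N) : Q u v = true := by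
  have h3 : (n + x * u) / y = v := by
    rw [h1, Nat.mul_div_cancel_left _ hy]
  have h4 : (n + x * u) % y = 0 := by
    rw [h1, Nat.mul_mod_right]
  unfold stepF at h
  rw [show Nat.div (Nat.add n (Nat.mul x u)) y = v from h3,
    show Nat.beq (Nat.mod (Nat.add n (Nat.mul x u)) y) 0 = true from beq_of h4,
    show Nat.beq (Nat.mod v p) (Nat.sub p 1) = true from beq_of h2,
    show Nat.beq (Nat.mod N v) 0 = true from beq_of (Nat.mod_eq_zero_of_dvd hv)] at h
  exact h

/-- all `x ≤ k`, `x ≥ 1`, with `y = r - x` -/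
def loopF (N p n r : ℕ) (Q : ℕ → ℕ → Bool) (u : ℕ) : ℕ → Bool
  | 0 => true
  | k + 1 => stepF N p n (Nat.succ k) (Nat.sub r (Nat.succ k)) Q u && loopF N p n r Q u k

theorem loopF_spec {N p n r : ℕ} {Q : ℕ → ℕ → Bool} {u : ℕ} : ∀ {k : ℕ}, loopF N p n r Q u k = true →
    ∀ x, 1 ≤ x → x ≤ k → stepF N p n x (r - x) Q u = true := by
  intro k
  induction k with
  | zero => intro _ x h1 h2; omega
  | succ k ih =>
    intro h x h1 h2
    rw [loopF, Bool.and_eq_true] at h
    rcases Nat.lt_or_ge x (k + 1) with h3 | h3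
    · exact ih h.2 x h1 (by omega)
    · obtain rfl : x = k + 1 := by omega
      exact h.1

/-- the check for the degree `u` -/
def chkForm (N p : ℕ) (es ns : List ℕ) (F : Bool) (Q : ℕ → ℕ → Bool) (u : ℕ) : Bool :=
  cond (Nat.beq (Nat.mod u p) 1)
    ((es.all fun e => ns.all fun n => cond (Nat.ble e n) true (stepE N p (Nat.sub e n) n Q u)) &&
      (cond F (ns.all fun n => loopF N p n (Nat.sub p n) Q u (Nat.sub (Nat.sub p n) 1)) true))
    (cond (Nat.beq (Nat.mod u p) (Nat.sub p 1))
      (es.all fun e => ns.all fun n => cond (Nat.ble e n) true (stepE N p (Nat.sub e n) n Q u)) true)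

theorem form_spec {N p idx : ℕ} {es ns : List ℕ} {F : Bool} {Q : ℕ → ℕ → Bool} {L : List (ℕ × ℕ)} (hp : p.Prime)
    (hp2 : 2 < p) (hL : ∀ x ∈ L, x.1.Prime) (hprod : N = p * (L.map fun x => x.1 ^ x.2).prod)
    (hchk : chkD (chkForm N p es ns F Q) L 1 = true) (hns : ∀ n, 1 ≤ n → n ≤ idx → n ∈ ns) {e : ℕ}
    (hes : e = p - 1 ∧ F = true ∨ e < p - 1 ∧ e ∈ es) {a b : ℕ} (ha : a ∣ N) (hb : b ∣ N) (h : Form p e idx a b) :
    Q a b = true := by
  have hpa : ¬ p ∣ a := by
    rcases h with ⟨-, -, n, -, -, -, h1⟩ | ⟨-, n, x, y, -, -, -, -, -, h1, -⟩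
    · exact h1.not_dvd_left hp2
    · intro hd
      have := Nat.mod_eq_zero_of_dvd hd
      omega
  have h1 : a ∣ (L.map fun x => x.1 ^ x.2).prod := by
    rw [hprod] at ha
    exact ((Nat.Prime.coprime_iff_not_dvd hp).2 hpa).symm.dvd_of_dvd_mul_left ha
  have h2 := chkD_spec hchk hL a h1
  rw [one_mul] at h2
  unfold chkForm at h2
  rcases h with ⟨-, hlt, n, hn1, hn2, hne, hs⟩ | ⟨he, n, x, y, hn1, hn2, hsum, hx, hy, ha1, hb1, heq⟩
  · -- `e < p - 1`
    have hes' : e ∈ es := by
      rcases hes with h3 | h3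
      · omega
      · exact h3.2
    have key : ((es.all fun e => ns.all fun n => cond (Nat.ble e n) true (stepE N p (Nat.sub e n) n Q a)) = true) →
        Q a b = true := by
      intro h3
      rw [List.all_eq_true] at h3
      have h4 := h3 e hes'
      rw [List.all_eq_true] at h4
      have h5 := h4 n (hns n hn1 hn2)
      have h6 : Nat.ble e n = false := by
        rcases hb : Nat.ble e n with _ | _
        · rfl
        · exact absurd (Nat.le_of_ble_eq_true hb) (by omega)
      rw [h6] at h5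
      exact stepE_spec hp2 h5 hs hb
    rcases hs with ⟨h3, h4⟩ | ⟨h3, h4⟩
    · rw [show Nat.beq (Nat.mod a p) 1 = true from beq_of h3] at h2
      have h5 := h2
      change (_ && _) = true at h5
      rw [Bool.and_eq_true] at h5
      exact key h5.1
    · rw [show Nat.beq (Nat.mod a p) 1 = false from beq_false (show a % p ≠ 1 by omega),
        show Nat.beq (Nat.mod a p) (Nat.sub p 1) = true from beq_of h3] at h2
      exact key h2
  · -- `e = p - 1`
    have hF : F = true := by
      rcases hes with h3 | h3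
      · exact h3.2
      · omega
    rw [show Nat.beq (Nat.mod a p) 1 = true from beq_of ha1, hF] at h2
    have h5 := h2
    change (_ && _) = true at h5
    rw [Bool.and_eq_true] at h5
    have h6 := h5.2
    change (ns.all _) = true at h6
    rw [List.all_eq_true] at h6
    have h7 := loopF_spec (h6 n (hns n hn1 hn2)) x hx (by
      show x ≤ p - n - 1
      omega)
    have h8 : Nat.sub p n - x = y := by
      show p - n - x = y
      omega
    rw [h8] at h7
    exact stepF_spec hy h7 heq hb1 hb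

end Cfsg.Agent.H590.Five
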