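import Cfsg.Agent.H713.Engine
import Cfsg.Agent.H598.PrimeDegrees
import Cfsg.Agent.Characters.SchurBound
import Cfsg.Agent.H713.Spor.Tool
import Cfsg.Agent.H424.DegTools
import Cfsg.Prelude.Def_DegreeGraph

/-!
# Character degrees of almost simple groups `M ≤ G`, `|G : M| ≤ 2` (helper590)

* `Ctx M` : `M` is a perfect simple normal subgroup of `G` with trivial centralizer, of index 1 or 2;
* `Ctx.deg_over` : the degree of `χ` is `k` times the degree of a constituent of its restriction, `k = 1` or `k = 2`;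
* `Ctx.exists_deg` : the degrees of `M` occur in `G`, up to a factor 2;
* `Ctx.ne_two` : there is no character of degree two;
* `Ctx.apply_ne` : nonlinear characters are faithful on `M`;
* `Ctx.index_ne` : no normal subgroup of odd prime index;
* `Ctx.index_comm` : `|G : G'|` divides `|G : M|`.
-/

set_option autoImplicit false

namespace Cfsg.Agent.H590.Five.Setup

open Cfsg Cfsg.Agent.Characters.Core Cfsg.Agent.Characters.Clifford Cfsg.Agent.Blocks.Basic
open Cfsg.Agent.H665.NoPQ
open Cfsg.Agent.H598.Gram (prin)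
open scoped ComplexConjugate

universe u

variable {G : Type u} [Group G] [Finite G]

/-- the situation -/
structure Ctx (M : Subgroup G) : Prop where
  normal : M.Normal
  simple : IsSimpleGroup M
  perf : commutator M = ⊤
  idx : M.index ∣ 2
  cent : Subgroup.centralizer (M : Set G) = ⊥

/-- The sum of the squares of the multiplicities in the restriction is at most the index. -/
theorem sum_sq_le [Fintype G] (N : Subgroup G) [Fintype N] [Fintype (IrrCharacter N)] {χ : G → ℂ}
    (hχ : IsIrrCharacter G χ) {m : IrrCharacter N → ℕ}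
    (hm : (fun n : N => χ n) = ∑ η : IrrCharacter N, m η • (η : N → ℂ)) : ∑ η, m η * m η ≤ N.index := by
  have h1 : classInner (fun n : N => χ n) (fun n : N => χ n) = ((∑ η, m η * m η : ℕ) : ℂ) := by
    have h2 : (fun n : N => χ n) = ∑ η : IrrCharacter N, (m η : ℂ) • (η : N → ℂ) := by
      rw [hm]
      refine Finset.sum_congr rfl fun η _ => ?_
      rw [Nat.cast_smul_eq_nsmul]
    rw [h2, classInner_sum_smul_sum_smul]
    push_cast
    refine Finset.sum_congr rfl fun η _ => ?_
    rw [Complex.conj_natCast]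
  rw [classInner_self_eq_ofReal] at h1
  have h3 : ((Nat.card N : ℝ)⁻¹ * ∑ g : N, Complex.normSq (χ g)) = ((∑ η, m η * m η : ℕ) : ℝ) := by
    exact_mod_cast h1
  have h4 := classInner_irr_self hχ
  rw [classInner_self_eq_ofReal] at h4
  have h5 : ((Nat.card G : ℝ)⁻¹ * ∑ g : G, Complex.normSq (χ g)) = 1 := by exact_mod_cast h4
  have hG : (0 : ℝ) < Nat.card G := by exact_mod_cast Nat.card_pos
  have hN : (0 : ℝ) < Nat.card N := by exact_mod_cast Nat.card_pos
  have h6 : ∑ g : G, Complex.normSq (χ g) = Nat.card G := by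
    field_simp at h5
    linarith
  have h7 : ∑ g : N, Complex.normSq (χ g) ≤ ∑ g : G, Complex.normSq (χ g) := by
    have h8 : ∑ g : N, Complex.normSq (χ g) =
        ∑ g ∈ Finset.univ.map (Function.Embedding.subtype (· ∈ N)), Complex.normSq (χ g) := by
      rw [Finset.sum_map]
      rfl
    rw [h8]
    exact Finset.sum_le_sum_of_subset_of_nonneg (Finset.subset_univ _) fun _ _ _ => Complex.normSq_nonneg _
  have h9 : ((∑ η, m η * m η : ℕ) : ℝ) ≤ N.index := by
    rw [← h3, inv_mul_le_iff₀ hN]
    have h10 : (Nat.card G : ℝ) = Nat.card N * N.index := by exact_mod_cast N.card_mul_index.symm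
    linarith [h7, h6, h10]
  exact_mod_cast h9

namespace Ctx

variable {M : Subgroup G}

omit [Finite G] in
theorem idx_le (c : Ctx M) : M.index ≤ 2 := Nat.le_of_dvd (by norm_num) c.idx

theorem deg_over (c : Ctx M) {χ : G → ℂ} (hχ : IsIrrCharacter G χ) {θ : M → ℂ} (hθ : IsIrrCharacter M θ)
    [Fintype M] (hne : classInner (fun n : M => χ n) θ ≠ 0) :
    (charDegree χ = charDegree θ ∨ charDegree χ = 2 * charDegree θ) ∧
      (θ = 1 → charDegree χ = 1) := by
  classical
  have := c.normal
  have := Fintype.ofFinite G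
  have := finite_irr (G := M)
  have := Fintype.ofFinite (IrrCharacter M)
  obtain ⟨m, hm⟩ := exists_nat_comb (isCharacter_restrict M (isIrr_isCharacter hχ))
  have hconst : ∀ η : IrrCharacter M, m η ≠ 0 → ∃ g : G, (η : M → ℂ) = θ ∘ (MulAut.conjNormal g : MulAut M) := by
    intro η hη
    have h3 : classInner (fun n : M => χ n) (η : M → ℂ) ≠ 0 := by
      rw [hm, classInner_sum_nsmul_irr]
      exact_mod_cast hη
    exact exists_conj_of_constituents M hχ hθ η.2 hne h3
  have h1 : charDegree χ = (∑ η : IrrCharacter M, m η) * charDegree θ := by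
    have h0 : (charDegree χ : ℂ) = ((∑ η : IrrCharacter M, m η) * charDegree θ : ℕ) := by
      rw [← irr_one_eq_charDegree hχ]
      have h2 := congrFun hm 1
      simp only [Finset.sum_apply, Pi.smul_apply, OneMemClass.coe_one] at h2
      rw [h2, Finset.sum_mul]
      push_cast
      refine Finset.sum_congr rfl fun η _ => ?_
      by_cases hη : m η = 0
      · simp [hη]
      · obtain ⟨g, hg⟩ := hconst η hη
        have h4 : (η : M → ℂ) 1 = θ 1 := by
          rw [hg]
          simp
        rw [h4, irr_one_eq_charDegree hθ, nsmul_eq_mul]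
    exact_mod_cast h0
  have h2 := sum_sq_le M hχ hm
  have h3 : ∑ η : IrrCharacter M, m η ≤ ∑ η, m η * m η :=
    Finset.sum_le_sum fun η _ => Nat.le_mul_self (m η)
  have h4 := c.idx_le
  have hpos : 0 < charDegree χ := charDegree_pos hχ
  have h5 : ∑ η : IrrCharacter M, m η ≠ 0 := by
    intro h
    rw [h, zero_mul] at h1
    omega
  refine ⟨?_, ?_⟩
  · rcases (show ∑ η : IrrCharacter M, m η = 1 ∨ ∑ η : IrrCharacter M, m η = 2 by omega) with h | h
    · left; rw [h1, h, one_mul]
    · right; rw [h1, h]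
  · intro hθ1
    -- all constituents are trivial
    let t : IrrCharacter M := ⟨θ, hθ⟩
    have h6 : ∀ η : IrrCharacter M, η ≠ t → m η = 0 := by
      intro η hη
      by_contra h
      obtain ⟨g, hg⟩ := hconst η h
      apply hη
      apply Subtype.ext
      show (η : M → ℂ) = θ
      rw [hg, hθ1]
      rfl
    have h7 : ∑ η : IrrCharacter M, m η = m t :=
      Finset.sum_eq_single t (fun η _ hη => h6 η hη) fun h => absurd (Finset.mem_univ _) h
    have h8 : ∑ η : IrrCharacter M, m η * m η = m t * m t :=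
      Finset.sum_eq_single t (fun η _ hη => by rw [h6 η hη, zero_mul]) fun h => absurd (Finset.mem_univ _) h
    rw [h7] at h1 h5
    rw [h8] at h2
    have h9 : m t = 1 := by
      have : m t < 2 := by
        by_contra hcon
        have : 2 * 2 ≤ m t * m t := Nat.mul_le_mul (by omega) (by omega)
        omega
      omega
    have h10 : charDegree θ = 1 := by
      have : (charDegree θ : ℂ) = 1 := by
        rw [← irr_one_eq_charDegree hθ, hθ1]
        rfl
      exact_mod_cast this
    rw [h1, h9, h10]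

/-- The degrees of `M` occur in `G`, up to a factor two. -/
theorem exists_deg (c : Ctx M) {t : ℕ} (ht : t ∈ charDegrees M) : t ∈ charDegrees G ∨ 2 * t ∈ charDegrees G := by
  have := Fintype.ofFinite G
  have := Fintype.ofFinite M
  obtain ⟨θ, rfl⟩ := ht
  obtain ⟨χ, hχ, hne⟩ := Cfsg.Agent.CharDeep.PowerDegrees.exists_irr_over M θ.2
  rcases (c.deg_over hχ θ.2 hne).1 with h | h
  · exact Or.inl ⟨⟨χ, hχ⟩, h⟩
  · exact Or.inr ⟨⟨χ, hχ⟩, h⟩

/-- A constituent of the restriction. -/
theorem exists_constituent [Fintype M] {χ : G → ℂ} (hχ : IsIrrCharacter G χ) :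
    ∃ θ : IrrCharacter M, classInner (fun n : M => χ n) (θ : M → ℂ) ≠ 0 := by
  classical
  have := finite_irr (G := M)
  have := Fintype.ofFinite (IrrCharacter M)
  obtain ⟨m, hm⟩ := exists_nat_comb (isCharacter_restrict M (isIrr_isCharacter hχ))
  by_contra hcon
  push Not at hcon
  have h1 : ∀ η : IrrCharacter M, m η = 0 := by
    intro η
    have h2 := hcon η
    rw [hm, classInner_sum_nsmul_irr] at h2
    exact_mod_cast h2
  have h3 := congrFun hm 1
  simp only [h1, zero_smul, Finset.sum_const_zero, OneMemClass.coe_one, Pi.zero_apply] at h3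
  exact isIrr_apply_one_ne_zero hχ h3

theorem ne_prin (c : Ctx M) [Fintype M] {χ : G → ℂ} (hχ : IsIrrCharacter G χ) (h1 : charDegree χ ≠ 1)
    {θ : IrrCharacter M} (hne : classInner (fun n : M => χ n) (θ : M → ℂ) ≠ 0) : θ ≠ prin M := by
  rintro rfl
  exact h1 ((c.deg_over hχ (prin M).2 hne).2 rfl)

/-- There is no character of degree two. -/
theorem ne_two (c : Ctx M) (χ : IrrCharacter G) : charDegree (χ : G → ℂ) ≠ 2 := by
  have := Fintype.ofFinite M
  have := c.simple
  intro h2
  obtain ⟨θ, hθ⟩ := exists_constituent (M := M) χ.2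
  have h3 := c.ne_prin χ.2 (by omega) hθ
  have h4 := Cfsg.Agent.H598.PrimeDegrees.charDegree_ne_one c.perf h3
  have h5 := Cfsg.Agent.H598.PrimeDegrees.charDegree_ne_two c.perf θ
  rcases (c.deg_over χ.2 θ.2 hθ).1 with h | h <;> omega

/-- Nonlinear characters are faithful on `M`. -/
theorem apply_ne (c : Ctx M) {χ : G → ℂ} (hχ : IsIrrCharacter G χ) (h1 : charDegree χ ≠ 1) {x : M} (hx : x ≠ 1) :
    χ x ≠ χ 1 := by
  classical
  have := Fintype.ofFinite M
  have := c.simple
  have := finite_irr (G := M)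
  have := Fintype.ofFinite (IrrCharacter M)
  intro heq
  obtain ⟨m, hm⟩ := exists_nat_comb (isCharacter_restrict M (isIrr_isCharacter hχ))
  have hx1 := congrFun hm x
  have hx2 := congrFun hm 1
  simp only [Finset.sum_apply, Pi.smul_apply, OneMemClass.coe_one] at hx1 hx2
  rw [heq, hx2] at hx1
  have hle : ∀ η : IrrCharacter M, ‖(η : M → ℂ) x‖ ≤ charDegree (η : M → ℂ) := fun η =>
    Cfsg.Agent.Characters.SchurBound.norm_le (isIrr_isCharacter η.2) (irr_one_eq_charDegree η.2) x
  have hre : ∀ η : IrrCharacter M, ((η : M → ℂ) x).re ≤ charDegree (η : M → ℂ) := fun η =>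
    (Complex.re_le_norm _).trans (hle η)
  obtain ⟨θ, hθ⟩ := exists_constituent (M := M) hχ
  have hm0 : m θ ≠ 0 := by
    intro h
    rw [hm, classInner_sum_nsmul_irr, h] at hθ
    exact hθ Nat.cast_zero
  have hlt : ((θ : M → ℂ) x).re < charDegree (θ : M → ℂ) :=
    lt_of_le_of_lt (Complex.re_le_norm _) (lt_of_le_of_ne (hle θ)
      (Cfsg.Agent.H598.PrimeDegrees.norm_ne c.perf (c.ne_prin hχ h1 hθ) hx))
  have hsum := congrArg Complex.re hx1
  rw [Complex.re_sum, Complex.re_sum] at hsum
  have hmul : ∀ (k : ℕ) (z : ℂ), (k • z).re = k * z.re := by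
    intro k z
    rw [nsmul_eq_mul]
    simp
  have h1' : ∀ η : IrrCharacter M, ((η : M → ℂ) 1).re = charDegree (η : M → ℂ) := by
    intro η
    rw [irr_one_eq_charDegree η.2, Complex.natCast_re]
  have h3 : ∑ η : IrrCharacter M, (m η • (η : M → ℂ) x).re < ∑ η : IrrCharacter M, (m η • (η : M → ℂ) 1).re := by
    refine Finset.sum_lt_sum (fun η _ => ?_) ⟨θ, Finset.mem_univ _, ?_⟩
    · rw [hmul, hmul, h1']
      exact mul_le_mul_of_nonneg_left (hre η) (Nat.cast_nonneg _)
    · rw [hmul, hmul, h1']
      exact mul_lt_mul_of_pos_left hlt (by exact_mod_cast Nat.pos_of_ne_zero hm0)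
  exact absurd hsum.symm h3.ne

omit [Finite G] in
theorem le_commutator (c : Ctx M) : M ≤ commutator G := by
  have h1 := Subgroup.map_subtype_commutator M
  rw [c.perf, ← MonoidHom.range_eq_map, Subgroup.range_subtype] at h1
  rw [h1, commutator_def]
  exact Subgroup.commutator_mono le_top le_top

omit [Finite G] in
theorem index_comm (c : Ctx M) : (commutator G).index ∣ M.index := Subgroup.index_dvd_of_le c.le_commutator

omit [Finite G] in
/-- No normal subgroup of odd prime index. -/
theorem index_ne (c : Ctx M) {p : ℕ} (hp : p.Prime) (hp2 : p ≠ 2) (hcard : ¬ Nat.card G ∣ p) (N : Subgroup G)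
    (hN : N.Normal) : N.index ≠ p := by
  intro hi
  have := c.normal
  have := c.simple
  have h1 : (N.subgroupOf M).Normal := inferInstance
  rcases h1.eq_bot_or_eq_top with h | h
  · -- `N ∩ M = 1`
    have h2 : N ⊓ M = ⊥ := by
      rw [Subgroup.subgroupOf_eq_bot] at h
      exact h.eq_bot
    have h3 : N ≤ Subgroup.centralizer (M : Set G) := by
      intro n hn
      rw [Subgroup.mem_centralizer_iff]
      intro m hm
      have h4 : m * n * m⁻¹ * n⁻¹ ∈ N ⊓ M := by
        refine ⟨N.mul_mem (hN.conj_mem n hn m) (N.inv_mem hn), ?_⟩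
        rw [mul_assoc, mul_assoc, ← mul_assoc n]
        exact M.mul_mem hm (c.normal.conj_mem _ (M.inv_mem hm) n)
      rw [h2, Subgroup.mem_bot] at h4
      exact mul_inv_eq_iff_eq_mul.1 (mul_inv_eq_one.1 h4)
    rw [c.cent, le_bot_iff] at h3
    rw [h3, Subgroup.index_bot] at hi
    exact hcard (by rw [hi])
  · rw [Subgroup.subgroupOf_eq_top] at h
    have h2 : p ∣ 2 := by
      rw [← hi]
      exact (Subgroup.index_dvd_of_le h).trans c.idx
    exact hp2 ((Nat.prime_dvd_prime_iff_eq hp Nat.prime_two).1 h2)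

end Ctx

universe v

/-- The situation from an isomorphism with a simple group with two outer automorphisms. -/
theorem Ctx.of_iso {M : Subgroup G} {K : Type v} [Group K] [Finite K] (hK : IsSimpleGroup K) (e : M ≃* K)
    (hM : M.Normal) (hc : Subgroup.centralizer (M : Set G) = ⊥) (hout : Nat.card (Cfsg.Out K) = 2)
    (hnp : ¬ (Nat.card K).Prime) : Ctx M := by
  have hs : IsSimpleGroup M := (e.isSimpleGroup_congr).2 hK
  refine ⟨hM, hs, ?_, ?_, hc⟩
  · refine Cfsg.Agent.H598.PrimeDegrees.commutator_eq_top fun h => ?_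
    apply hnp
    let _ : CommGroup K := { ‹Group K› with
      mul_comm := fun x y => by
        have h1 := congrArg e (h (e.symm x) (e.symm y))
        rwa [map_mul, map_mul, e.apply_symm_apply, e.apply_symm_apply] at h1 }
    exact IsSimpleGroup.prime_card
  · let f : K →* G := M.subtype.comp e.symm.toMonoidHom
    have hf : Function.Injective f := fun x y h => e.symm.injective (Subtype.ext h)
    have hr : f.range = M := by
      ext g
      constructor
      · rintro ⟨x, rfl⟩
        exact (e.symm x).2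
      · intro hg
        exact ⟨e ⟨g, hg⟩, by
          show ((e.symm (e ⟨g, hg⟩) : M) : G) = g
          rw [e.symm_apply_apply]⟩
    have h1 := Cfsg.Agent.H713.index_mul_card_dvd f hf (by rw [hr]; exact hM) (by rw [hr]; exact hc)
    rw [hr] at h1
    have h2 := h1.trans (Cfsg.Agent.H713.card_mulAut_dvd (S := K) (o := 2) (by rw [hout]))
    exact Nat.dvd_of_mul_dvd_mul_right Nat.card_pos h2

/-- A degree of `M` divisible by `p` gives one of `G`. -/
theorem Ctx.exists_dvd {M : Subgroup G} (c : Ctx M) {K : Type v} [Group K] [Finite K] (e : M ≃* K) {p : ℕ}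
    (h : ∃ d ∈ charDegrees K, p ∣ d) : ∃ d ∈ charDegrees G, p ∣ d := by
  obtain ⟨d, hd, hpd⟩ := h
  rw [← Cfsg.Agent.H424.DegTools.charDegrees_congr e] at hd
  rcases c.exists_deg hd with h | h
  · exact ⟨d, h, hpd⟩
  · exact ⟨2 * d, h, Dvd.dvd.mul_left hpd 2⟩

end Cfsg.Agent.H590.Five.Setup
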