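import Cfsg.Agent.S4106
import Cfsg.Agent.H686.CharKit
import Cfsg.Agent.H590.Five.Setup

/-!
# A bound for the class number and for the largest degree (helper590)

* `card_conjClasses_le` : `k(G) ≤ |G|_{2'} + |C(s)| + |C(t)|` if every involution is conjugate to `s` or `t`;
* `card_le_of_degrees` : `|G| ≤ B² k(G)` if all degrees are at most `B`.
-/

set_option autoImplicit false

namespace Cfsg.Agent.H590.Five.ClassBound

open Cfsg Cfsg.Agent.Characters.Core

variable {G : Type*} [Group G] [Finite G]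

theorem even_class {s t : G} (h : ∀ u : G, orderOf u = 2 → IsConj u s ∨ IsConj u t) {g : G} (hg : 2 ∣ orderOf g) :
    (∃ x ∈ Subgroup.centralizer ({s} : Set G), ConjClasses.mk x = ConjClasses.mk g) ∨
      (∃ x ∈ Subgroup.centralizer ({t} : Set G), ConjClasses.mk x = ConjClasses.mk g) := by
  obtain ⟨k, hk⟩ := hg
  have h0 : orderOf g ≠ 0 := (orderOf_pos g).ne'
  have hk0 : k ≠ 0 := by rintro rfl; exact h0 (by rw [hk, mul_zero])
  have hu : orderOf (g ^ k) = 2 := by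
    rw [orderOf_pow_of_dvd hk0 ⟨2, by rw [hk, mul_comm]⟩, hk, Nat.mul_div_cancel _ (Nat.pos_of_ne_zero hk0)]
  have key : ∀ r : G, IsConj (g ^ k) r → ∃ x ∈ Subgroup.centralizer ({r} : Set G),
      ConjClasses.mk x = ConjClasses.mk g := by
    intro r hr
    obtain ⟨c, hc⟩ := isConj_iff.1 hr
    refine ⟨c * g * c⁻¹, ?_, ?_⟩
    · rw [Subgroup.mem_centralizer_singleton_iff, ← hc]
      have : c * g ^ k * c⁻¹ = (c * g * c⁻¹) ^ k := (conj_pow).symm
      rw [this]
      exact ((Commute.refl (c * g * c⁻¹)).pow_right k).eq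
    · exact ConjClasses.mk_eq_mk_iff_isConj.2 (isConj_iff.2 ⟨c⁻¹, by group⟩)
  rcases h _ hu with h1 | h1
  · exact Or.inl (key s h1)
  · exact Or.inr (key t h1)

theorem card_conjClasses_le {s t : G} (h : ∀ u : G, orderOf u = 2 → IsConj u s ∨ IsConj u t) {n m : ℕ}
    (hG : Nat.card G = 2 ^ n * m) (hm : ¬ 2 ∣ m) :
    Nat.card (ConjClasses G) ≤ m + Nat.card (Subgroup.centralizer ({s} : Set G)) +
      Nat.card (Subgroup.centralizer ({t} : Set G)) := by
  classical
  let A := {C : ConjClasses G // ∀ q : ℕ, q.Prime → (∃ g : G, ConjClasses.mk g = C ∧ q ∣ orderOf g) →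
    q ∈ {q : ℕ | q.Prime ∧ q ≠ 2}}
  have hA : Nat.card A ≤ m := by
    refine Cfsg.Agent.S4106.result {q : ℕ | q.Prime ∧ q ≠ 2} (fun q hq => hq.1) m (hG ▸ dvd_mul_left m _) ?_ ?_
    · intro q hq hqm
      refine ⟨hq, ?_⟩
      rintro rfl
      exact hm hqm
    · rintro q ⟨hq, hq2⟩ hd
      have hm0 : 0 < m := Nat.pos_of_ne_zero (by rintro rfl; exact hm (dvd_zero 2))
      rw [hG, Nat.mul_div_cancel _ hm0] at hd
      exact hq2 ((Nat.prime_dvd_prime_iff_eq hq Nat.prime_two).1 (hq.dvd_of_dvd_pow hd))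
  let f : A ⊕ (Subgroup.centralizer ({s} : Set G) ⊕ Subgroup.centralizer ({t} : Set G)) → ConjClasses G :=
    Sum.elim (fun a => a.1) (Sum.elim (fun x => ConjClasses.mk (x : G)) (fun x => ConjClasses.mk (x : G)))
  have hf : Function.Surjective f := by
    intro C
    by_cases hC : ∀ q : ℕ, q.Prime → (∃ g : G, ConjClasses.mk g = C ∧ q ∣ orderOf g) →
      q ∈ {q : ℕ | q.Prime ∧ q ≠ 2}
    · exact ⟨Sum.inl ⟨C, hC⟩, rfl⟩
    · push Not at hC
      obtain ⟨q, hq, ⟨g, rfl, hg⟩, hq2⟩ := hC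
      have hq2' : q = 2 := by
        by_contra hne
        exact hq2 ⟨hq, hne⟩
      subst hq2'
      rcases even_class h hg with ⟨x, hx, he⟩ | ⟨x, hx, he⟩
      · exact ⟨Sum.inr (Sum.inl ⟨x, hx⟩), he⟩
      · exact ⟨Sum.inr (Sum.inr ⟨x, hx⟩), he⟩
  have h1 := Nat.card_le_card_of_surjective f hf
  rw [Nat.card_sum, Nat.card_sum] at h1
  omega

theorem card_le_of_degrees {B : ℕ} (h : ∀ d ∈ charDegrees G, d ≤ B) :
    Nat.card G ≤ B ^ 2 * Nat.card (ConjClasses G) := by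
  classical
  have := finite_irr (G := G)
  have := Fintype.ofFinite (IrrCharacter G)
  rw [← Cfsg.Agent.H686.CharKit.sum_deg_sq, ← card_irr, Nat.card_eq_fintype_card, mul_comm, ← smul_eq_mul,
    ← Finset.card_univ, ← Finset.sum_const]
  exact Finset.sum_le_sum fun χ _ => Nat.pow_le_pow_left (h _ ⟨χ, rfl⟩) 2

end Cfsg.Agent.H590.Five.ClassBound
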