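import Cfsg.Agent.H713.Count

/-!
# Degrees of characters and elementary abelian subgroups of rank two (helper590)

`sq_sub_one_le` : `x`, `y` commute, `x ^ p = y ^ p = 1`, all `x ^ i * y ^ j`, `(i, j) ≠ (0, 0)`, are conjugate to `x`:
a character `χ` with `χ x ≠ χ 1` has degree at least `p ^ 2 - 1`.
-/

set_option autoImplicit false

namespace Cfsg.Agent.H590.Five.DegPair

open Cfsg Cfsg.Agent.Characters.Core Cfsg.Agent.Characters.Linear Cfsg.Agent.H713.Count
open scoped ComplexConjugate

variable {G : Type*} [Group G] {p : ℕ} [hp : Fact p.Prime]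

theorem sum_const_ite {ι : Type*} [Fintype ι] [DecidableEq ι] (i₀ : ι) (t d : ℂ) (g : ι → ℂ) :
    ∑ i : ι, (if i = i₀ then d else t) * g i = t * ∑ i, g i + (d - t) * g i₀ := by
  have h : ∀ i : ι, (if i = i₀ then d else t) * g i = t * g i + (if i = i₀ then (d - t) * g i else 0) := by
    intro i
    split_ifs with h <;> ring
  rw [Finset.sum_congr rfl fun i _ => h i, Finset.sum_add_distrib, ← Finset.mul_sum, Finset.sum_ite_eq']
  simp

/-- the homomorphism of the elementary abelian group of rank two -/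
noncomputable def homPair {x y : G} (hx : x ^ p = 1) (hy : y ^ p = 1) (hxy : Commute x y) :
    Multiplicative (ZMod p) × Multiplicative (ZMod p) →* G :=
  MonoidHom.noncommCoprod (hom x hx) (hom y hy) fun a b => (hxy.pow_left a.toAdd.val).pow_right b.toAdd.val

theorem homPair_apply {x y : G} (hx : x ^ p = 1) (hy : y ^ p = 1) (hxy : Commute x y) (i j : ZMod p) :
    homPair hx hy hxy (Multiplicative.ofAdd i, Multiplicative.ofAdd j) = x ^ i.val * y ^ j.val := rfl

/-- **The degree is at least `p ^ 2 - 1`.** -/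
theorem sq_sub_one_le [Finite G] {x y : G} (hx : x ^ p = 1) (hy : y ^ p = 1) (hxy : Commute x y)
    (hconj : ∀ i j : ZMod p, i ≠ 0 ∨ j ≠ 0 → IsConj x (x ^ i.val * y ^ j.val)) {χ : G → ℂ}
    (hχ : IsCharacter G χ) (hne : χ x ≠ χ 1) {d : ℕ} (hd : χ 1 = d) : p ^ 2 - 1 ≤ d := by
  classical
  have hcf := isCharacter_isClassFunction hχ
  have hp0 : (p : ℂ) ≠ 0 := by exact_mod_cast hp.out.ne_zero
  have hval : ∀ i j : ZMod p, χ (x ^ i.val * y ^ j.val) = if (i, j) = (0, 0) then (d : ℂ) else χ x := by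
    intro i j
    split_ifs with h
    · rw [Prod.mk.injEq] at h
      rw [h.1, h.2, ZMod.val_zero, pow_zero, pow_zero, mul_one, hd]
    · rw [Prod.mk.injEq, not_and_or] at h
      exact (classFunction_apply_eq hcf (hconj i j h)).symm
  -- the multiplicity of a nontrivial linear character of `⟨x⟩`
  obtain ⟨m, hm⟩ := mlt_isNat hx hχ (1 : ZMod p)
  have hm1 : (p : ℂ) * m = d - χ x := by
    rw [← hm, mlt, mul_inv_cancel_left₀ hp0]
    have h1 : ∀ i : ZMod p, χ (x ^ i.val) * conj (ZMod.stdAddChar ((1 : ZMod p) * i) : ℂ) =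
        (if i = 0 then (d : ℂ) else χ x) * ZMod.stdAddChar ((-1 : ZMod p) * i) := by
      intro i
      have h2 := hval i 0
      rw [ZMod.val_zero, pow_zero, mul_one] at h2
      rw [h2, conj_stdAddChar, one_mul, neg_one_mul]
      simp
    rw [Finset.sum_congr rfl fun i _ => h1 i, sum_const_ite, sum_stdAddChar, if_neg (neg_ne_zero.2 one_ne_zero),
      mul_zero, zero_add, mul_zero, AddChar.map_zero_eq_one, mul_one]
  -- the multiplicity of the trivial character of `⟨x, y⟩`
  obtain ⟨n, hn⟩ := classInner_isNat (isCharacter_comp (homPair hx hy hxy) hχ)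
    (isCharacter_one (G := Multiplicative (ZMod p) × Multiplicative (ZMod p)))
  have hn1 : (p : ℂ) ^ 2 * n = d + (p ^ 2 - 1) * χ x := by
    have h1 : (Nat.card (Multiplicative (ZMod p) × Multiplicative (ZMod p)) : ℂ) = (p : ℂ) ^ 2 := by
      rw [Nat.card_prod, Nat.card_eq_fintype_card, Fintype.card_multiplicative, ZMod.card]
      push_cast
      ring
    rw [← hn, classInner_def, h1, mul_inv_cancel_left₀ (pow_ne_zero 2 hp0)]
    have h2 : ∑ g : Multiplicative (ZMod p) × Multiplicative (ZMod p),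
        (χ ∘ homPair hx hy hxy) g * conj ((1 : Multiplicative (ZMod p) × Multiplicative (ZMod p) → ℂ) g) =
        ∑ g : ZMod p × ZMod p, (if g = (0, 0) then (d : ℂ) else χ x) * (fun _ => (1 : ℂ)) g := by
      refine (Fintype.sum_equiv (Equiv.prodCongr Multiplicative.ofAdd Multiplicative.ofAdd) _ _ fun g => ?_).symm
      obtain ⟨i, j⟩ := g
      rw [← hval i j]
      simp [homPair_apply, Function.comp]
    rw [h2, sum_const_ite]
    simp only [Finset.sum_const, Finset.card_univ, Fintype.card_prod, ZMod.card, nsmul_eq_mul, mul_one]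
    push_cast
    ring
  -- arithmetic
  have h3 : (p : ℂ) * n + (p ^ 2 - 1) * m = p * d := by
    have h4 : χ x = d - p * m := by rw [hm1]; ring
    rw [h4] at hn1
    apply mul_left_cancel₀ hp0
    linear_combination hn1
  have h5 : (p : ℤ) * n + (p ^ 2 - 1) * m = p * d := by exact_mod_cast h3
  have h6 : (p : ℤ) ∣ m := by
    refine ⟨n + p * m - d, ?_⟩
    linear_combination -h5
  obtain ⟨k, hk⟩ : p ∣ m := by exact_mod_cast h6
  have hk0 : k ≠ 0 := by
    rintro rfl
    rw [mul_zero] at hk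
    rw [hk, Nat.cast_zero, mul_zero] at hm1
    exact hne (by rw [hd]; exact (sub_eq_zero.1 hm1.symm).symm)
  have h7 : (d : ℤ) = n + (p ^ 2 - 1) * k := by
    have hpz : (p : ℤ) ≠ 0 := by exact_mod_cast hp.out.ne_zero
    apply mul_left_cancel₀ hpz
    rw [hk] at h5
    push_cast at h5
    linear_combination -h5
  have h8 : (1 : ℤ) ≤ k := by exact_mod_cast Nat.one_le_iff_ne_zero.2 hk0
  have h9 : (0 : ℤ) ≤ (p : ℤ) ^ 2 - 1 := by
    have : (1 : ℤ) ≤ (p : ℤ) ^ 2 := by exact_mod_cast Nat.one_le_pow _ _ hp.out.pos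
    linarith
  have h10 : (p : ℤ) ^ 2 - 1 ≤ d := by nlinarith
  have h11 : p ^ 2 ≤ d + 1 := by
    have : (p : ℤ) ^ 2 ≤ d + 1 := by linarith
    exact_mod_cast this
  omega

end Cfsg.Agent.H590.Five.DegPair
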