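import Cfsg.Agent.H590.Five.Tools
import Cfsg.Agent.H590.Five.Cand
import Cfsg.Agent.H690.Spor.RankThree
import Cfsg.Agent.H713.Spor.Fi22
import Cfsg.Agent.S1687
import Cfsg.Agent.S1696
import Cfsg.Agent.S2079

/-!
# Five character degrees: almost simple groups with socle the Fischer group Fi22 (helper590, for S4898)

The degrees prime to 13 and the relations for 11 and 7 leave degrees at most 200; the permutation character of degree
3510 is the sum of three irreducible characters.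
-/

set_option autoImplicit false

namespace Cfsg.Agent.H590.Five.Fi22Row

open Cfsg Cfsg.Agent.H590.Five Cfsg.Agent.H590.Five.Tools Cfsg.Agent.H590.Five.Cand
open Cfsg.Agent.H604.FD.Inner (chkD chkD_spec)

universe u

def L : List (ℕ × ℕ) := [(1, 2), (1, 3), (1, 4), (1, 6), (1, 12), (12, 10), (12, 11), (12, 22), (12, 35),
  (14, 12), (14, 15), (14, 16), (14, 25), (14, 30), (14, 64), (25, 24), (25, 48), (27, 28), (27, 55), (27, 56),
  (27, 110), (40, 42), (40, 81), (40, 162), (64, 63), (64, 126), (66, 25), (77, 75), (77, 384), (90, 88),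
  (768, 77), (768, 770)]

theorem chk13 : chkD (chkForm (2 * 64561751654400) 13 [2, 3, 4, 6] [1, 2] true (memL L))
    [(2, 18), (3, 9), (5, 2), (7, 1), (11, 1)] 1 = true := by decide +kernel

/-- only degrees at most `200` survive -/
def P (a b d : ℕ) : Bool :=
  cond (Nat.beq (Nat.mod d 13) 0) (cond (Nat.beq (Nat.mod (2 * 64561751654400) d) 0)
    (Nat.ble a 200 && Nat.ble b 200 && Nat.ble d 200) true) true

theorem chk : (L.all fun x => Nat.beq x.1 1 || (chkR 11 x.1 x.2 [2, 5, 10] [1, 2] (P x.1 x.2) ||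
    chkR 7 x.1 x.2 [2, 3, 6] [1, 2] (P x.1 x.2))) = true := by decide +kernel

theorem P_spec {a b d : ℕ} (h : P a b d = true) (h1 : 13 ∣ d) (h2 : d ∣ 2 * 64561751654400) :
    a ≤ 200 ∧ b ≤ 200 ∧ d ≤ 200 := by
  unfold P at h
  rw [show Nat.beq (Nat.mod d 13) 0 = true from beq_of (Nat.mod_eq_zero_of_dvd h1),
    show Nat.beq (Nat.mod (2 * 64561751654400) d) 0 = true from beq_of (Nat.mod_eq_zero_of_dvd h2)] at h
  simp only [cond_true, Bool.and_eq_true, Nat.ble_eq] at h
  exact ⟨h.1.1, h.1.2, h.2⟩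

theorem mem10 : ∀ e ∈ Nat.divisors 10, 2 ≤ e → e ∈ [2, 5, 10] := by decide +kernel

theorem mem6 : ∀ e ∈ Nat.divisors 6, 2 ≤ e → e ∈ [2, 3, 6] := by decide +kernel

/-- a large degree from a permutation representation of rank three -/
theorem exists_large_of_index {G : Type*} [Group G] [Finite G] (H : Subgroup G) {k l : ℕ} (hi : H.index = 1 + k + l)
    (ho : ∃ q₁ q₂ : G ⧸ H, (MulAction.orbit H q₁).ncard = k ∧ (MulAction.orbit H q₂).ncard = l)
    (hk : 1 < k) (hl : 1 < l) (hkl : k ≠ l) : ∃ d ∈ charDegrees G, k + l ≤ 2 * d := by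
  classical
  obtain ⟨q₁, q₂, h2, h3⟩ := ho
  have := Fintype.ofFinite (G ⧸ H)
  obtain ⟨R, hR⟩ := Cfsg.Agent.H690.Spor.RankThree.R3.of_index H hi h2 h3 hk hl hkl
  obtain ⟨χ₁, χ₂, f, g, D, hf, hg, -, hfg, -⟩ := hR.frame
  have key : ∀ (χ : IrrCharacter G) (n : ℕ), (χ : G → ℂ) 1 = n → n ∈ charDegrees G := by
    intro χ n h
    refine ⟨χ, ?_⟩
    rw [Cfsg.Agent.Blocks.Basic.irr_one_eq_charDegree χ.2] at h
    exact_mod_cast h
  rcases Nat.lt_or_ge f g with h | h
  · exact ⟨g, key χ₂ g hg, by omega⟩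
  · exact ⟨f, key χ₁ f hf, by omega⟩

/-- a degree at least `1755` -/
theorem exists_large [Finite Cfsg.Spor.Fi22] : ∃ d ∈ charDegrees Cfsg.Spor.Fi22, 693 + 2816 ≤ 2 * d :=
  exists_large_of_index _ Cfsg.Agent.S1687.result.1 Cfsg.Agent.S1687.result.2 (by norm_num) (by norm_num)
    (by norm_num)

theorem five_Fi22 {G : Type u} [Group G] [Finite G] (M : Subgroup G) (hM : M.Normal)
    (hc : Subgroup.centralizer (M : Set G) = ⊥) (h : Cfsg.Spor.IsoFi22 M) : 5 ≤ (Cfsg.charDegrees G).ncard := by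
  obtain ⟨e⟩ := h
  obtain ⟨hs, hK⟩ := Cfsg.Agent.S1696.result
  have : Finite Cfsg.Spor.Fi22 := Nat.finite_of_card_ne_zero (by rw [hK]; norm_num)
  have c : Setup.Ctx M := Setup.Ctx.of_iso hs e hM hc Cfsg.Agent.S2079.result (by rw [hK]; norm_num)
  have hMc : Nat.card M = 64561751654400 := by rw [Nat.card_congr e.toEquiv, hK]
  by_contra hcon
  rw [not_le] at hcon
  obtain ⟨a, b, d, hcd, hab, hpd, ha, hb, hd, ha1, hb1, ha2, hb2, hpa, hpb, hQ⟩ := pairs c e hK (p := 13)
    (by norm_num) (by norm_num) (by norm_num) (by norm_num) (by norm_num) hcon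
    (exists_dvd_of_hasDZ (by norm_num) (Cfsg.Agent.H713.Spor.Fi22.hasDZ_13 (MulEquiv.refl _))
      (by rw [hK]; norm_num)) [2, 3, 4, 6] (by decide +kernel) (by decide) (by norm_num) chk13
  have hx := memL_spec hQ
  have hd1 : d ≠ 1 := by rintro rfl; norm_num at hpd
  have had : a ≠ d := by rintro rfl; exact hpa hpd
  have hbd : b ≠ d := by rintro rfl; exact hpb hpd
  have hdG := (Cfsg.Agent.H424.DegTools.dvd_card hd).trans (card_dvd c hMc)
  have hidx := c.idx_le
  have hns : ∀ n, 1 ≤ n → n ≤ M.index → n ∈ [1, 2] := by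
    intro n h1 h2
    have : n = 1 ∨ n = 2 := by omega
    rcases this with rfl | rfl <;> simp
  obtain ⟨e7, he7, he7', hR7⟩ := relq c hMc (q := 7) (by norm_num) (by norm_num) (by norm_num) (by norm_num)
    (by norm_num)
  obtain ⟨e11, he11, he11', hR11⟩ := relq c hMc (q := 11) (by norm_num) (by norm_num) (by norm_num) (by norm_num)
    (by norm_num)
  have hR7 := hR7 a b d hcd ha1 hb1 hd1 hab had hbd
  have hR11 := hR11 a b d hcd ha1 hb1 hd1 hab had hbd
  have h1 := List.all_eq_true.1 chk _ hx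
  simp only [Bool.or_eq_true] at h1
  have hP : P a b d = true := by
    rcases h1 with h1 | h1 | h1
    · exact absurd (Nat.eq_of_beq_eq_true h1) ha1
    · exact chkR_spec (by norm_num) h1 (mem10 _ (Nat.mem_divisors.2 ⟨he11', by norm_num⟩) he11) hns hR11
    · exact chkR_spec (by norm_num) h1 (mem6 _ (Nat.mem_divisors.2 ⟨he7', by norm_num⟩) he7) hns hR7
  obtain ⟨ha3, hb3, hd3⟩ := P_spec hP hpd hdG
  -- all degrees of `G` are at most `200`
  have hle : ∀ t ∈ charDegrees G, t ≤ 200 := by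
    intro t ht
    have := hcd ht
    simp only [Set.mem_insert_iff, Set.mem_singleton_iff] at this
    omega
  obtain ⟨t, ht, ht'⟩ := exists_large
  rw [← Cfsg.Agent.H424.DegTools.charDegrees_congr e] at ht
  rcases c.exists_deg ht with h2 | h2
  · have := hle _ h2
    omega
  · have := hle _ h2
    omega

end Cfsg.Agent.H590.Five.Fi22Row
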