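import Cfsg.Agent.H590.Five.Tools
import Cfsg.Agent.H590.Five.Cand
import Cfsg.Agent.H713.Spor.FiTF
import Cfsg.Agent.S1698
import Cfsg.Agent.S2081

/-!
# Five character degrees: almost simple groups with socle the Fischer group Fi24' (helper590, for S4898)

The degrees prime to 29 and the relations for 11, 13, 17 and 23.
-/

set_option autoImplicit false

namespace Cfsg.Agent.H590.Five.FiTFRow

open Cfsg Cfsg.Agent.H590.Five Cfsg.Agent.H590.Five.Tools Cfsg.Agent.H590.Five.Cand
open Cfsg.Agent.H604.FD.Inner (chkD chkD_spec loop)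

universe u

def L : List (ℕ × ℕ) := [(1, 2), (1, 4), (1, 7), (1, 14), (1, 28), (28, 27), (28, 54), (28, 138), (30, 28),
  (30, 91), (30, 391), (30, 782), (88, 405), (88, 442), (117, 352), (144, 143), (144, 286), (175, 176),
  (175, 352), (204, 1225), (204, 2450), (231, 230), (231, 460), (378, 260), (378, 550), (552, 637), (637, 8280),
  (784, 3450), (1275, 1274), (1275, 2548), (3450, 17248), (5888, 5103), (5888, 76545), (5888, 153090),
  (11050, 26244), (16560, 637)]

/-- the divisors with the exponents `0, ..., k + m + 1` of `q` in two parts (memory of the kernel check) -/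
theorem loop_add {g : ℕ → Bool} {q k m : ℕ} : ∀ {a : ℕ}, loop g q k a = true →
    loop g q m (a * q ^ (k + 1)) = true → loop g q (k + (m + 1)) a = true := by
  induction k with
  | zero =>
    intro a h1 h2
    rw [Nat.zero_add, loop, Bool.and_eq_true]
    refine ⟨h1, ?_⟩
    rwa [Nat.zero_add, pow_one] at h2
  | succ k ih =>
    intro a h1 h2
    rw [loop, Bool.and_eq_true] at h1
    rw [show k + 1 + (m + 1) = k + (m + 1) + 1 by omega, loop, Bool.and_eq_true]
    refine ⟨h1.1, ih h1.2 ?_⟩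
    rwa [show Nat.mul a q = a * q from rfl, mul_assoc, ← pow_succ']

theorem chk29a : loop (chkD (chkForm (2 * 1255205709190661721292800) 29 [2, 4, 7, 14] [1, 2] true (memL L))
    [(3, 16), (5, 2), (7, 3), (11, 1), (13, 1), (17, 1), (23, 1)]) 2 7 1 = true := by decide +kernel

theorem chk29b : loop (chkD (chkForm (2 * 1255205709190661721292800) 29 [2, 4, 7, 14] [1, 2] true (memL L))
    [(3, 16), (5, 2), (7, 3), (11, 1), (13, 1), (17, 1), (23, 1)]) 2 7 256 = true := by decide +kernel

theorem chk29c : loop (chkD (chkForm (2 * 1255205709190661721292800) 29 [2, 4, 7, 14] [1, 2] true (memL L))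
    [(3, 16), (5, 2), (7, 3), (11, 1), (13, 1), (17, 1), (23, 1)]) 2 6 65536 = true := by decide +kernel

theorem chk29 : chkD (chkForm (2 * 1255205709190661721292800) 29 [2, 4, 7, 14] [1, 2] true (memL L))
    [(2, 22), (3, 16), (5, 2), (7, 3), (11, 1), (13, 1), (17, 1), (23, 1)] 1 = true :=
  loop_add (k := 7) (m := 14) chk29a (loop_add (k := 7) (m := 6) chk29b chk29c)

/-- nothing survives -/
def P (d : ℕ) : Bool :=
  cond (Nat.beq (Nat.mod d 29) 0) (!(Nat.beq (Nat.mod (2 * 1255205709190661721292800) d) 0)) true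

theorem chk : (L.all fun x => Nat.beq x.1 1 || (chkR 11 x.1 x.2 [2, 5, 10] [1, 2] P ||
    (chkR 13 x.1 x.2 [2, 3, 4, 6, 12] [1, 2] P || (chkR 17 x.1 x.2 [2, 4, 8, 16] [1, 2] P ||
    chkR 23 x.1 x.2 [2, 11, 22] [1, 2] P)))) = true := by decide +kernel

theorem P_spec {d : ℕ} (h : P d = true) (h1 : 29 ∣ d) (h2 : d ∣ 2 * 1255205709190661721292800) : False := by
  unfold P at h
  rw [show Nat.beq (Nat.mod d 29) 0 = true from beq_of (Nat.mod_eq_zero_of_dvd h1),
    show Nat.beq (Nat.mod (2 * 1255205709190661721292800) d) 0 = true from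
      beq_of (Nat.mod_eq_zero_of_dvd h2)] at h
  exact Bool.noConfusion h

theorem mem10 : ∀ e ∈ Nat.divisors 10, 2 ≤ e → e ∈ [2, 5, 10] := by decide +kernel

theorem mem12 : ∀ e ∈ Nat.divisors 12, 2 ≤ e → e ∈ [2, 3, 4, 6, 12] := by decide +kernel

theorem mem16 : ∀ e ∈ Nat.divisors 16, 2 ≤ e → e ∈ [2, 4, 8, 16] := by decide +kernel

theorem mem22 : ∀ e ∈ Nat.divisors 22, 2 ≤ e → e ∈ [2, 11, 22] := by decide +kernel

theorem five_Fi24p {G : Type u} [Group G] [Finite G] (M : Subgroup G) (hM : M.Normal)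
    (hc : Subgroup.centralizer (M : Set G) = ⊥) (h : Cfsg.Spor.IsoFi24' M) : 5 ≤ (Cfsg.charDegrees G).ncard := by
  obtain ⟨e⟩ := h
  obtain ⟨hs, hK⟩ := Cfsg.Agent.S1698.result
  have : Finite Cfsg.Spor.Fi24' := Nat.finite_of_card_ne_zero (by rw [hK]; norm_num)
  have c : Setup.Ctx M := Setup.Ctx.of_iso hs e hM hc Cfsg.Agent.S2081.result (by rw [hK]; norm_num)
  have hMc : Nat.card M = 1255205709190661721292800 := by rw [Nat.card_congr e.toEquiv, hK]
  by_contra hcon
  rw [not_le] at hcon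
  obtain ⟨a, b, d, hcd, hab, hpd, ha, hb, hd, ha1, hb1, ha2, hb2, hpa, hpb, hQ⟩ := pairs c e hK (p := 29)
    (by norm_num) (by norm_num) (by norm_num) (by norm_num) (by norm_num) hcon
    (exists_dvd_of_hasDZ (by norm_num) Cfsg.Agent.H713.Spor.FiTF.hasDZ_29
      (by rw [hK]; norm_num)) [2, 4, 7, 14] (by decide +kernel) (by decide) (by norm_num) chk29
  have hx := memL_spec hQ
  have hd1 : d ≠ 1 := by rintro rfl; norm_num at hpd
  have had : a ≠ d := by rintro rfl; exact hpa hpd
  have hbd : b ≠ d := by rintro rfl; exact hpb hpd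
  have hdG := (Cfsg.Agent.H424.DegTools.dvd_card hd).trans (card_dvd c hMc)
  have hidx := c.idx_le
  have hns : ∀ n, 1 ≤ n → n ≤ M.index → n ∈ [1, 2] := by
    intro n h1 h2
    have : n = 1 ∨ n = 2 := by omega
    rcases this with rfl | rfl <;> simp
  obtain ⟨e11, he11, he11', hR11⟩ := relq c hMc (q := 11) (by norm_num) (by norm_num) (by norm_num) (by norm_num)
    (by norm_num)
  obtain ⟨e13, he13, he13', hR13⟩ := relq c hMc (q := 13) (by norm_num) (by norm_num) (by norm_num) (by norm_num)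
    (by norm_num)
  obtain ⟨e17, he17, he17', hR17⟩ := relq c hMc (q := 17) (by norm_num) (by norm_num) (by norm_num) (by norm_num)
    (by norm_num)
  obtain ⟨e23, he23, he23', hR23⟩ := relq c hMc (q := 23) (by norm_num) (by norm_num) (by norm_num) (by norm_num)
    (by norm_num)
  have hR11 := hR11 a b d hcd ha1 hb1 hd1 hab had hbd
  have hR13 := hR13 a b d hcd ha1 hb1 hd1 hab had hbd
  have hR17 := hR17 a b d hcd ha1 hb1 hd1 hab had hbd
  have hR23 := hR23 a b d hcd ha1 hb1 hd1 hab had hbd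
  have h1 := List.all_eq_true.1 chk _ hx
  simp only [Bool.or_eq_true] at h1
  refine P_spec (d := d) ?_ hpd hdG
  rcases h1 with h1 | h1 | h1 | h1 | h1
  · exact absurd (Nat.eq_of_beq_eq_true h1) ha1
  · exact chkR_spec (by norm_num) h1 (mem10 _ (Nat.mem_divisors.2 ⟨he11', by norm_num⟩) he11) hns hR11
  · exact chkR_spec (by norm_num) h1 (mem12 _ (Nat.mem_divisors.2 ⟨he13', by norm_num⟩) he13) hns hR13
  · exact chkR_spec (by norm_num) h1 (mem16 _ (Nat.mem_divisors.2 ⟨he17', by norm_num⟩) he17) hns hR17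
  · exact chkR_spec (by norm_num) h1 (mem22 _ (Nat.mem_divisors.2 ⟨he23', by norm_num⟩) he23) hns hR23

end Cfsg.Agent.H590.Five.FiTFRow
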