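import Cfsg.Agent.H590.Five.Setup

/-!
# `|N(P) : C(P)|` by fusion (helper590)

* `relIndex_fus` : `|N(P) : C(P)|` is the number of powers of `x` conjugate to `x`, `P = ⟨x⟩` a subgroup of order `p`;
* `exists_sylow` : `P` as a Sylow subgroup;
* `card_fus_mono` : the number for a subgroup is at most the one for the group.
-/

set_option autoImplicit false

namespace Cfsg.Agent.H590.Five

open Cfsg Cfsg.Agent.H713 Cfsg.Agent.H713.Count Cfsg.Agent.H590.Five.Setup

universe u

variable {G : Type u} [Group G] [Finite G] {p : ℕ} [hp : Fact p.Prime]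

omit [Finite G] in
theorem centralizer_zpowers (x : G) :
    Subgroup.centralizer (Subgroup.zpowers x : Set G) = Subgroup.centralizer ({x} : Set G) := by
  rw [Subgroup.zpowers_eq_closure, Subgroup.centralizer_closure]

theorem relIndex_fus {x : G} (hx : orderOf x = p) :
    (Subgroup.centralizer (Subgroup.zpowers x : Set G)).relIndex
      (Subgroup.normalizer (Subgroup.zpowers x : Set G)) = (fus (p := p) x).card := by
  have h1 := card_normalizer_zpowers hx
  have hle : Subgroup.centralizer (Subgroup.zpowers x : Set G) ≤ Subgroup.normalizer (Subgroup.zpowers x : Set G) :=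
    Subgroup.centralizer_le_normalizer _
  have h2 := Subgroup.index_mul_card ((Subgroup.centralizer (Subgroup.zpowers x : Set G)).subgroupOf
    (Subgroup.normalizer (Subgroup.zpowers x : Set G)))
  rw [Nat.card_congr (Subgroup.subgroupOfEquivOfLe hle).toEquiv, h1, ← centralizer_zpowers x] at h2
  exact Nat.eq_of_mul_eq_mul_right Nat.card_pos h2

theorem exists_sylow {x : G} (hx : orderOf x = p) (hsq : ¬ p ^ 2 ∣ Nat.card G) :
    ∃ P : Sylow p G, (P : Subgroup G) = Subgroup.zpowers x := by
  obtain ⟨P, hP⟩ := (IsPGroup.of_card (G := Subgroup.zpowers x) (p := p) (n := 1)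
    (by rw [pow_one, Nat.card_zpowers, hx])).exists_le_sylow
  refine ⟨P, (Subgroup.eq_of_le_of_card_ge hP ?_).symm⟩
  obtain ⟨n, hn⟩ := IsPGroup.iff_card.1 P.2
  have h1 : p ^ n ∣ Nat.card G := hn ▸ Subgroup.card_subgroup_dvd_card _
  have hn1 : n ≤ 1 := by
    by_contra hc
    exact hsq (dvd_trans (pow_dvd_pow p (by omega)) h1)
  rw [Nat.card_zpowers, hx, hn]
  calc p ^ n ≤ p ^ 1 := Nat.pow_le_pow_right hp.out.pos hn1
    _ = p := pow_one p

omit [Finite G] in
theorem card_fus_mono {M : Subgroup G} (x : M) : (fus (p := p) x).card ≤ (fus (p := p) (x : G)).card := by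
  refine Finset.card_le_card fun m hm => ?_
  rw [mem_fus] at hm ⊢
  refine ⟨hm.1, ?_⟩
  obtain ⟨g, hg⟩ := isConj_iff.1 hm.2
  exact isConj_iff.2 ⟨g, congrArg Subtype.val hg⟩

omit [Finite G] in
theorem card_fus_dvd' {x : G} (hx : orderOf x = p) : (fus (p := p) x).card ∣ p - 1 :=
  ⟨_, (card_fus_mul_card_sing (by rw [← hx]; exact pow_orderOf_eq_one x)).symm⟩

/-- the fusion of a self-centralizing element -/
theorem card_fus_eq {x : G} (hx : orderOf x = p) (hsq : ¬ p ^ 2 ∣ Nat.card G)
    (hc : Nat.card (Subgroup.centralizer ({x} : Set G)) = p) : (fus (p := p) x).card = (Nat.card G / p) % p := by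
  have hd : p ∣ Nat.card G := hx ▸ orderOf_dvd_natCard x
  have hf : (Nat.card G).factorization p = 1 := by
    refine le_antisymm ?_ ((hp.out.dvd_iff_one_le_factorization Nat.card_pos.ne').1 hd)
    by_contra hcon
    push Not at hcon
    exact hsq ((hp.out.pow_dvd_iff_le_factorization Nat.card_pos.ne').2 hcon)
  have h1 := card_fus_mul hf hx (c := 1) (by rw [hc, mul_one])
  rw [mul_one] at h1
  have h2 : (fus (p := p) x).card < p := by
    have h3 := Nat.le_of_dvd (by have := hp.out.one_lt; omega) (card_fus_dvd' hx)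
    have := hp.out.one_lt
    omega
  have h3 : (fus (p := p) x).card % p = (Nat.card G / p) % p := h1
  rwa [Nat.mod_eq_of_lt h2] at h3

end Cfsg.Agent.H590.Five
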