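import Cfsg.Agent.H590.Five.Tools
import Cfsg.Agent.H590.Five.Cand
import Cfsg.Agent.H590.Five.ClassBound
import Cfsg.Agent.H710.Spor.HN

/-!
# Five character degrees: almost simple groups with socle the Harada-Norton group (helper590, for S4898)

The degrees prime to 19 and the relations for 11 and 7 leave the degrees `20`, `21`, `d ≤ 57`, which are too small for
the class number.
-/

set_option autoImplicit false

namespace Cfsg.Agent.H590.Five.HNRow

open Cfsg Cfsg.Agent.H590.Five Cfsg.Agent.H590.Five.Tools Cfsg.Agent.H590.Five.Cand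
open Cfsg.Agent.H604.FD.Inner (chkD chkD_spec)

universe u

def L19 : List (ℕ × ℕ) := [(1, 2), (1, 3), (1, 6), (1, 9), (1, 18), (18, 16), (18, 35), (18, 70), (20, 18), (20, 21),
  (20, 22), (56, 54), (56, 55), (77, 360), (1008, 550)]

theorem chk19 : chkD (chkForm (2 * 273030912000000) 19 [2, 3, 6, 9] [1, 2] true (memL L19))
    [(2, 15), (3, 6), (5, 6), (7, 1), (11, 1)] 1 = true := by decide +kernel

/-- the degrees `20`, `21`, `d ≤ 57` survive -/
def P (a b d : ℕ) : Bool :=
  cond (Nat.beq (Nat.mod d 19) 0) (cond (Nat.beq (Nat.mod (2 * 273030912000000) d) 0)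
    (Nat.beq a 20 && Nat.beq b 21 && Nat.ble d 57) true) true

theorem chk : (L19.all fun x => Nat.beq x.1 1 || (chkR 11 x.1 x.2 [2, 5, 10] [1, 2] (P x.1 x.2) ||
    chkR 7 x.1 x.2 [2, 3, 6] [1, 2] (P x.1 x.2))) = true := by decide +kernel

theorem P_spec {a b d : ℕ} (h : P a b d = true) (h1 : 19 ∣ d) (h2 : d ∣ 2 * 273030912000000) :
    a = 20 ∧ b = 21 ∧ d ≤ 57 := by
  unfold P at h
  rw [show Nat.beq (Nat.mod d 19) 0 = true from beq_of (Nat.mod_eq_zero_of_dvd h1),
    show Nat.beq (Nat.mod (2 * 273030912000000) d) 0 = true from beq_of (Nat.mod_eq_zero_of_dvd h2)] at h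
  simp only [cond_true, Bool.and_eq_true, Nat.ble_eq] at h
  exact ⟨Nat.eq_of_beq_eq_true h.1.1, Nat.eq_of_beq_eq_true h.1.2, h.2⟩

theorem mem10 : ∀ e ∈ Nat.divisors 10, 2 ≤ e → e ∈ [2, 5, 10] := by decide +kernel

theorem mem6 : ∀ e ∈ Nat.divisors 6, 2 ≤ e → e ∈ [2, 3, 6] := by decide +kernel

theorem five_HN {G : Type u} [Group G] [Finite G] (M : Subgroup G) (hM : M.Normal)
    (hc : Subgroup.centralizer (M : Set G) = ⊥) (h : Cfsg.Spor.IsoHN M) : 5 ≤ (Cfsg.charDegrees G).ncard := by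
  obtain ⟨e⟩ := h
  have hK : Nat.card Cfsg.Spor.HN = 273030912000000 := Cfsg.Agent.H710.Spor.HN.card_hn
  have : Finite Cfsg.Spor.HN := Cfsg.Agent.H710.Spor.HN.finite_hn
  have hs : IsSimpleGroup Cfsg.Spor.HN := Cfsg.Agent.H710.Spor.HN.isSimple_hn
  have c : Setup.Ctx M := Setup.Ctx.of_iso hs e hM hc Cfsg.Agent.S2082.result (by rw [hK]; norm_num)
  have hMc : Nat.card M = 273030912000000 := by rw [Nat.card_congr e.toEquiv, hK]
  by_contra hcon
  rw [not_le] at hcon
  obtain ⟨a, b, d, hcd, hab, hpd, ha, hb, hd, ha1, hb1, ha2, hb2, hpa, hpb, hQ⟩ := pairs c e hK (p := 19)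
    (by norm_num) (by norm_num) (by norm_num) (by norm_num) (by norm_num) hcon
    (exists_dvd_of_hasDZ (by norm_num) Cfsg.Agent.H710.Spor.HN.hasDZ_19 (by rw [hK]; norm_num)) [2, 3, 6, 9]
    (by decide +kernel) (by decide) (by norm_num) chk19
  have hx := memL_spec hQ
  have hd1 : d ≠ 1 := by rintro rfl; norm_num at hpd
  have had : a ≠ d := by rintro rfl; exact hpa hpd
  have hbd : b ≠ d := by rintro rfl; exact hpb hpd
  have hdG := (Cfsg.Agent.H424.DegTools.dvd_card hd).trans (card_dvd c hMc)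
  have hidx := c.idx_le
  have hns : ∀ n, 1 ≤ n → n ≤ M.index → n ∈ [1, 2] := by
    intro n h1 h2
    have : n = 1 ∨ n = 2 := by omega
    rcases this with rfl | rfl <;> simp
  obtain ⟨e7, he7, he7', hR7⟩ := relq c hMc (q := 7) (by norm_num) (by norm_num) (by norm_num) (by norm_num)
    (by norm_num)
  obtain ⟨e11, he11, he11', hR11⟩ := relq c hMc (q := 11) (by norm_num) (by norm_num) (by norm_num) (by norm_num)
    (by norm_num)
  have hR7 := hR7 a b d hcd ha1 hb1 hd1 hab had hbd
  have hR11 := hR11 a b d hcd ha1 hb1 hd1 hab had hbd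
  have h1 := List.all_eq_true.1 chk _ hx
  simp only [Bool.or_eq_true] at h1
  have hP : P a b d = true := by
    rcases h1 with h1 | h1 | h1
    · exact absurd (Nat.eq_of_beq_eq_true h1) ha1
    · exact chkR_spec (by norm_num) h1 (mem10 _ (Nat.mem_divisors.2 ⟨he11', by norm_num⟩) he11) hns hR11
    · exact chkR_spec (by norm_num) h1 (mem6 _ (Nat.mem_divisors.2 ⟨he7', by norm_num⟩) he7) hns hR7
  obtain ⟨rfl, rfl, hd57⟩ := P_spec hP hpd hdG
  -- all degrees of `M` are at most `57`
  have hle : ∀ t ∈ charDegrees G, t ≤ 57 := by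
    intro t ht
    have := hcd ht
    simp only [Set.mem_insert_iff, Set.mem_singleton_iff] at this
    omega
  have hleK : ∀ t ∈ charDegrees Cfsg.Spor.HN, t ≤ 57 := by
    intro t ht
    rw [← Cfsg.Agent.H424.DegTools.charDegrees_congr e] at ht
    rcases c.exists_deg ht with h2 | h2
    · exact hle _ h2
    · have := hle _ h2
      omega
  have h2 := ClassBound.card_le_of_degrees hleK
  have h3 := ClassBound.card_conjClasses_le (G := Cfsg.Spor.HN) (fun u hu =>
    (Cfsg.Agent.SigZeroHN.card_centralizer_cases hu).imp And.left And.left) (n := 14) (m := 16664484375)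
    (by rw [hK]; norm_num) (by norm_num)
  rw [Cfsg.Agent.KFacts.HN.Classes.card_centralizer_τ, Cfsg.Agent.KFacts.HN.PCard.card_centralizer] at h3
  rw [hK] at h2
  omega

end Cfsg.Agent.H590.Five.HNRow
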