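import Cfsg.Agent.H590.Five.HeWords
import Cfsg.Agent.H590.Five.DegPair
import Cfsg.Agent.H590.Five.Check
import Cfsg.Agent.H590.Five.Fus
import Cfsg.Agent.H547.SelfCent.He
import Cfsg.Agent.KFacts.He.TwoACent
import Cfsg.Agent.S2075

/-!
# Five character degrees: almost simple groups with socle the Held group (helper590, for S4898)
-/

set_option autoImplicit false

namespace Cfsg.Agent.H590.Five.HeRow

open Cfsg Cfsg.Spor Cfsg.Spor.He Cfsg.Agent.SporadicB.HePerm
open Cfsg.Agent.FixBN.HeStab Cfsg.Agent.KFacts.He.Lv Cfsg.Agent.CpAutHe.Cnt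
open Cfsg.Agent.H604.FD.Inner (chkD chkD_spec)

universe u

theorem card_fix (w : List Gen) : Nat.card {i : Fin 2058 // phi (wd w) i = i} =
    cnt 2058 (fun y => Nat.beq (act w y) y) := by
  classical
  rw [← card_filter, Nat.card_eq_fintype_card, Fintype.card_subtype]
  refine Finset.card_bij (fun i _ => (i : ℕ)) ?_ ?_ ?_
  · intro i hi
    rw [Finset.mem_filter] at hi ⊢
    refine ⟨Finset.mem_range.2 i.2, ?_⟩
    rw [act_eq, hi.2]
    exact Nat.beq_refl _
  · intro i _ j _ h
    exact Fin.ext h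
  · intro y hy
    rw [Finset.mem_filter, Finset.mem_range] at hy
    refine ⟨⟨y, hy.1⟩, ?_, rfl⟩
    rw [Finset.mem_filter]
    refine ⟨Finset.mem_univ _, Fin.ext ?_⟩
    rw [← act_eq]
    exact Nat.eq_of_beq_eq_true hy.2

theorem cntA : cnt 2058 (fun y => Nat.beq (act [.a] y) y) = 154 := by decide +kernel
theorem cntD : cnt 2058 (fun y => Nat.beq (act [.d] y) y) = 42 := by decide +kernel

theorem not_isConj : ¬ IsConj (wd [.a]) (wd [.d]) := by
  intro h
  obtain ⟨k, hk⟩ := isConj_iff.1 h
  have h1 : Nat.card {i : Fin 2058 // phi (wd [.a]) i = i} = Nat.card {i : Fin 2058 // phi (wd [.d]) i = i} := by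
    refine Nat.card_congr (Equiv.subtypeEquiv (phi k) fun i => ?_)
    rw [← hk, map_mul, map_mul, map_inv, Equiv.Perm.mul_apply, Equiv.Perm.mul_apply, inv_app]
    exact ((phi k).injective.eq_iff).symm
  rw [card_fix, card_fix, cntA, cntD] at h1
  exact absurd h1 (by norm_num)

theorem orderOf_wd (m : Gen) (i : Fin 2058) (h : Nat.beq (act [m] i) i = false) : orderOf (wd [m]) = 2 := by
  have : Fact (Nat.Prime 2) := ⟨Nat.prime_two⟩
  refine orderOf_eq_prime ?_ (HeWords.ne_one_of_act i h)
  rw [pow_two, wd_one]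
  exact Cfsg.Agent.KFacts.He.TwoACent.gn_mul_self m

/-- some degree is divisible by 17 -/
theorem exists_dvd : ∃ d ∈ charDegrees Cfsg.Spor.He, 17 ∣ d := by
  have : Finite Cfsg.Spor.He := finite_he
  have h1 : orderOf (wd [.a]) = 2 := orderOf_wd .a 8 (by decide +kernel)
  have h2 : orderOf (wd [.d]) = 2 := orderOf_wd .d 2 (by decide +kernel)
  refine Cfsg.Agent.H604.FD.Inner.exists_dvd_of_two (p := 17) (by norm_num) (by norm_num) (by rw [card_he]; norm_num)
    (by rw [card_he]; norm_num) ?_ h1 h2 not_isConj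
  intro x hx
  exact Cfsg.Agent.H547.SelfCent.HeRow.he ⟨MulEquiv.refl _⟩ card_he hx

/-- the check -/
theorem chk : chkD (chkForm (2 * 4030387200) 17 [8] [1, 2] true (fun u v => Nat.blt u 24 || Nat.blt v 24))
    [(2, 11), (3, 3), (5, 2), (7, 3)] 1 = true := by decide +kernel

theorem five_He {G : Type u} [Group G] [Finite G] (M : Subgroup G) (hM : M.Normal)
    (hc : Subgroup.centralizer (M : Set G) = ⊥) (h : Cfsg.Spor.IsoHe M) : 5 ≤ (Cfsg.charDegrees G).ncard := by
  obtain ⟨e⟩ := h
  have f17 : Fact (Nat.Prime 17) := ⟨by norm_num⟩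
  have : Finite Cfsg.Spor.He := finite_he
  have hs : IsSimpleGroup Cfsg.Spor.He := Cfsg.Agent.S1695.result.1
  have c : Setup.Ctx M := Setup.Ctx.of_iso hs e hM hc Cfsg.Agent.S2075.result (by rw [card_he]; norm_num)
  have hMc : Nat.card M = 4030387200 := by rw [Nat.card_congr e.toEquiv, card_he]
  have hi := c.idx_le
  have hi0 : M.index ≠ 0 := Subgroup.index_ne_zero_of_finite
  have hG : Nat.card G = 4030387200 * M.index := by rw [← M.card_mul_index, hMc]
  have hGd : Nat.card G ∣ 2 * 4030387200 := by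
    rw [hG, mul_comm 2]
    exact Nat.mul_dvd_mul_left _ c.idx
  have hidx : M.index = 1 ∨ M.index = 2 := by omega
  -- the element of order 17
  have hx0 : orderOf (wd Cfsg.Agent.H547.SelfCent.HeRow.X) = 17 := Cfsg.Agent.H547.SelfCent.HeRow.orderOf_x
  let y : M := e.symm (wd Cfsg.Agent.H547.SelfCent.HeRow.X)
  have hy : orderOf y = 17 := by rw [MulEquiv.orderOf_eq]; exact hx0
  have hyG : orderOf (y : G) = 17 := by rw [Subgroup.orderOf_coe, hy]
  have hsqG : ¬ 17 ^ 2 ∣ Nat.card G := by
    intro hd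
    have := hd.trans hGd
    norm_num at this
  obtain ⟨P, hP⟩ := exists_sylow hyG hsqG
  have hPc : Nat.card (P : Subgroup G) = 17 := by rw [hP, Nat.card_zpowers, hyG]
  -- `e = 8` or `e = 16`
  have hfM : (Cfsg.Agent.H713.Count.fus (p := 17) y).card = 8 := by
    rw [card_fus_eq hy (by rw [hMc]; norm_num) (Cfsg.Agent.H547.SelfCent.HeRow.he ⟨e⟩ hMc hy), hMc]
  have hfle := card_fus_mono (p := 17) y
  rw [hfM] at hfle
  have hfd := card_fus_dvd' (p := 17) hyG
  have he : (Subgroup.centralizer ((P : Subgroup G) : Set G)).relIndex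
      (Subgroup.normalizer ((P : Subgroup G) : Set G)) = (Cfsg.Agent.H713.Count.fus (p := 17) (y : G)).card := by
    rw [hP]
    exact relIndex_fus hyG
  by_contra hcon
  rw [not_le] at hcon
  obtain ⟨-, a, b, d, -, -, -, ha, hb, -, ha1, hb1, -, -, hF⟩ := main c (p := 17) (by norm_num) hG
    (by rcases hidx with h | h <;> rw [h] <;> norm_num) hcon (c.exists_dvd e exists_dvd) P hPc he
  have haG := (Cfsg.Agent.H424.DegTools.dvd_card ha).trans hGd
  have hbG := (Cfsg.Agent.H424.DegTools.dvd_card hb).trans hGd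
  have hQ := form_spec (N := 2 * 4030387200) (p := 17) (idx := M.index) (by norm_num) (by norm_num)
    (by decide) (by norm_num) chk (by
      intro n h1 h2
      have : n = 1 ∨ n = 2 := by omega
      rcases this with rfl | rfl <;> simp) (e := (Cfsg.Agent.H713.Count.fus (p := 17) (y : G)).card) (by
      set t := (Cfsg.Agent.H713.Count.fus (p := 17) (y : G)).card with ht
      have ht16 : t ∣ 16 := hfd
      have ht3 : t = 8 ∨ t = 16 := by
        have hle : t ≤ 16 := Nat.le_of_dvd (by norm_num) ht16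
        interval_cases t <;> revert ht16 <;> decide
      rcases ht3 with h | h
      · right
        rw [h]
        exact ⟨by norm_num, by simp⟩
      · left
        exact ⟨h, rfl⟩) haG hbG hF
  -- the degrees are at least 24
  have key : ∀ t ∈ charDegrees G, t ≠ 1 → 24 ≤ t := by
    rintro t ⟨χ, rfl⟩ ht
    have f5 : Fact (Nat.Prime 5) := ⟨by norm_num⟩
    let x' : M := e.symm HeWords.x
    let y' : M := e.symm HeWords.y
    have hx' : ((x' : M) : G) ^ 5 = 1 := by
      rw [← Subgroup.coe_pow, ← map_pow, HeWords.x_pow, map_one, Subgroup.coe_one]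
    have hy' : ((y' : M) : G) ^ 5 = 1 := by
      rw [← Subgroup.coe_pow, ← map_pow, HeWords.y_pow, map_one, Subgroup.coe_one]
    have hxy : Commute ((x' : M) : G) (y' : G) := by
      have h1 : x' * y' = y' * x' := by
        show e.symm _ * e.symm _ = e.symm _ * e.symm _
        rw [← map_mul, ← map_mul, HeWords.comm_xy.eq]
      exact congrArg Subtype.val h1
    have hx1 : x' ≠ 1 := by
      intro h
      apply HeWords.x_ne
      have := congrArg e h
      rwa [e.apply_symm_apply, map_one] at this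
    refine DegPair.sq_sub_one_le (p := 5) hx' hy' hxy ?_ (Cfsg.Agent.Characters.Core.isIrr_isCharacter χ.2)
      (c.apply_ne χ.2 ht hx1) (Cfsg.Agent.Blocks.Basic.irr_one_eq_charDegree χ.2)
    intro i j hij
    obtain ⟨g, hg⟩ := isConj_iff.1 (HeWords.isConj hij)
    refine isConj_iff.2 ⟨((e.symm g : M) : G), ?_⟩
    have h2 := congrArg (fun z => ((e.symm z : M) : G)) hg
    simpa using h2
  have ha24 := key a ha ha1
  have hb24 := key b hb hb1
  rw [Bool.or_eq_true] at hQ
  rcases hQ with h | h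
  · have : a < 24 := Nat.le_of_ble_eq_true h
    omega
  · have : b < 24 := Nat.le_of_ble_eq_true h
    omega

end Cfsg.Agent.H590.Five.HeRow
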