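import Cfsg.Agent.CpAutHe.Cnt

/-!
# An elementary abelian subgroup of order 25 of the Held group, all of whose elements are conjugate (helper590)

* `x_pow`, `y_pow`, `comm_xy` : `x`, `y` of exponent 5 commute;
* `isConj` : `x ^ i * y ^ j` is conjugate to `x` for `(i, j) ≠ (0, 0)`.
-/

set_option autoImplicit false

namespace Cfsg.Agent.H590.Five.HeWords

open Cfsg.Spor Cfsg.Spor.He Cfsg.Agent.SporadicB.HePerm
open Cfsg.Agent.FixBN.HeStab Cfsg.Agent.KFacts.He.Lv Cfsg.Agent.CpAutHe.Cnt

/-- the word of `x` -/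
def X : List Gen := [.c, .d, .c, .d]

/-- the conjugating word of `y` -/
def U : List Gen := [.f, .d, .g, .b, .c, .d, .f, .e, .d, .g, .e, .c, .d, .f, .b]

/-- the conjugate of the word `v` by the word `w` -/
def cj (w v : List Gen) : List Gen := w ++ (v ++ w.reverse)

/-- the word of `y` -/
def Y : List Gen := cj U X

/-- `x ↦ x ^ 2` -/
def V : List Gen := [.e, .d, .c, .d, .c, .b, .a, .b]
/-- `x ↦ x y` -/
def W1 : List Gen := [.b, .f, .d, .c, .d, .f, .g, .d, .b, .c, .d, .f, .g, .d, .f, .e, .a, .b]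
/-- `x ↦ x ^ 2 y` -/
def W2 : List Gen := [.e, .d, .c, .b, .d, .e, .g, .d, .c, .d, .b, .c, .d, .f, .g, .d, .c, .d, .f, .g, .a, .b]
/-- `x ↦ x ^ 3 y` -/
def W3 : List Gen := [.g, .d, .c, .d, .e, .g, .d, .c, .d, .b, .c, .d, .g, .f, .d, .c, .d, .f, .e, .d, .g, .b]
/-- `x ↦ x ^ 4 y` -/
def W4 : List Gen := [.b, .f, .d, .e, .c, .d, .b, .c, .d, .g, .f, .d, .c, .d, .g, .f, .b]

theorem chk5 : chkB (pw X 5) [] = true := by decide +kernel
theorem chkC : chkB (X ++ Y) (Y ++ X) = true := by decide +kernel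
theorem chkV : chkB (cj V X) (pw X 2) = true := by decide +kernel
theorem chk1 : chkB (cj W1 X) (X ++ Y) = true := by decide +kernel
theorem chk2 : chkB (cj W2 X) (pw X 2 ++ Y) = true := by decide +kernel
theorem chk3 : chkB (cj W3 X) (pw X 3 ++ Y) = true := by decide +kernel
theorem chk4 : chkB (cj W4 X) (pw X 4 ++ Y) = true := by decide +kernel
theorem chkU : chkB (U ++ U.reverse) [] = true := by decide +kernel
theorem chkVr : chkB (V ++ V.reverse) [] = true := by decide +kernel
theorem chk1r : chkB (W1 ++ W1.reverse) [] = true := by decide +kernel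
theorem chk2r : chkB (W2 ++ W2.reverse) [] = true := by decide +kernel
theorem chk3r : chkB (W3 ++ W3.reverse) [] = true := by decide +kernel
theorem chk4r : chkB (W4 ++ W4.reverse) [] = true := by decide +kernel

theorem wd_rev {w : List Gen} (h : chkB (w ++ w.reverse) [] = true) : wd w.reverse = (wd w)⁻¹ := by
  have h1 := eq_of_chkB h
  rw [wd_append, wd_nil] at h1
  exact eq_inv_of_mul_eq_one_right h1

theorem isConj_cj {w v : List Gen} (h : chkB (w ++ w.reverse) [] = true) : IsConj (wd v) (wd (cj w v)) := by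
  refine isConj_iff.2 ⟨wd w, ?_⟩
  rw [cj, wd_append, wd_append, wd_rev h, mul_assoc]

/-- the first generator -/
noncomputable def x : Cfsg.Spor.He := wd X

/-- the second generator -/
noncomputable def y : Cfsg.Spor.He := wd Y

theorem x_pow : x ^ 5 = 1 := by
  have h := eq_of_chkB chk5
  rwa [wd_pw, wd_nil] at h

theorem comm_xy : Commute x y := by
  have h := eq_of_chkB chkC
  rwa [wd_append, wd_append] at h

theorem conj_y : IsConj x y := isConj_cj chkU

theorem y_pow : y ^ 5 = 1 := by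
  have h := conj_y.pow 5
  rw [x_pow, isConj_comm, isConj_one_left] at h
  exact h

theorem ne_one_of_act {w : List Gen} (i : Fin 2058) (h : Nat.beq (act w i) i = false) : wd w ≠ 1 := by
  intro he
  rw [act_eq, he, map_one] at h
  have h2 : Nat.beq (i : ℕ) (i : ℕ) = true := Nat.beq_refl _
  have h3 : Nat.beq (i : ℕ) (i : ℕ) = false := h
  rw [h2] at h3
  exact absurd h3 (by decide)

theorem x_ne : x ≠ 1 := ne_one_of_act 5 (by decide +kernel)

theorem conj_two : IsConj x (x ^ 2) := by
  have h := isConj_cj (v := X) chkVr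
  rwa [eq_of_chkB chkV, wd_pw] at h

theorem conj_pow {j : ℕ} (hj : j = 1 ∨ j = 2 ∨ j = 3 ∨ j = 4) : IsConj x (x ^ j) := by
  have h4 : IsConj x (x ^ 4) := by
    have h := conj_two.pow 2
    rw [← pow_mul] at h
    exact conj_two.trans h
  rcases hj with rfl | rfl | rfl | rfl
  · rw [pow_one]
  · exact conj_two
  · have h := conj_two.pow 4
    rw [← pow_mul] at h
    have h5 : x ^ (2 * 4) = x ^ 3 := by
      rw [show 2 * 4 = 5 + 3 from rfl, pow_add, x_pow, one_mul]
    rw [h5] at h
    exact h4.trans h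
  · exact h4

theorem conj_mul {k : ℕ} (hk : k < 5) : IsConj x (x ^ k * y) := by
  interval_cases k
  · rw [pow_zero, one_mul]
    exact conj_y
  · have h := isConj_cj (v := X) chk1r
    rw [eq_of_chkB chk1, wd_append] at h
    rw [pow_one]
    exact h
  · have h := isConj_cj (v := X) chk2r
    rw [eq_of_chkB chk2, wd_append, wd_pw] at h
    exact h
  · have h := isConj_cj (v := X) chk3r
    rw [eq_of_chkB chk3, wd_append, wd_pw] at h
    exact h
  · have h := isConj_cj (v := X) chk4r
    rw [eq_of_chkB chk4, wd_append, wd_pw] at h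
    exact h

/-- **All elements `≠ 1` of `⟨x, y⟩` are conjugate to `x`.** -/
theorem isConj {i j : ZMod 5} (h : i ≠ 0 ∨ j ≠ 0) : IsConj x (x ^ i.val * y ^ j.val) := by
  have key : ∀ j : ZMod 5, j ≠ 0 → (j.val = 1 ∨ j.val = 2 ∨ j.val = 3 ∨ j.val = 4) := by decide
  by_cases hj : j = 0
  · subst hj
    have hi : i ≠ 0 := h.resolve_right fun h => h rfl
    rw [ZMod.val_zero, pow_zero, mul_one]
    exact conj_pow (key i hi)
  · have key2 : ∀ i j : ZMod 5, j ≠ 0 → ∃ k < 5, (k * j.val) % 5 = i.val := by decide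
    obtain ⟨k, hk, hkj⟩ := key2 i j hj
    have h1 : (x ^ k * y) ^ j.val = x ^ i.val * y ^ j.val := by
      rw [(comm_xy.pow_left k).mul_pow, ← pow_mul]
      congr 1
      rw [← hkj]
      exact pow_eq_pow_mod _ x_pow
    rw [← h1]
    exact (conj_pow (key j hj)).trans ((conj_mul hk).pow j.val)

end Cfsg.Agent.H590.Five.HeWords
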