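import Cfsg.Agent.H590.Five.Arith

/-!
# Fewer than five degrees in an almost simple group: the shape of the degrees prime to `p` (helper590)

`main` : `p` exactly divides `|G|`, some degree is divisible by `p`, fewer than five degrees: the nonlinear degrees are
`a`, `b`, `d` with `p ∣ d` and `a`, `b` related by `Form p e idx a b`.
-/

set_option autoImplicit false

namespace Cfsg.Agent.H590.Five

open Cfsg Cfsg.Agent.H590.Five.Setup

universe u

/-- the relation between the two degrees prime to `p` -/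
def Form (p e idx a b : ℕ) : Prop :=
  (2 ≤ e ∧ e < p - 1 ∧ ∃ n, 1 ≤ n ∧ n ≤ idx ∧ n < e ∧ Sol p (e - n) n a b) ∨
    (e = p - 1 ∧ ∃ n x y, 1 ≤ n ∧ n ≤ idx ∧ n + x + y = p ∧ 1 ≤ x ∧ 1 ≤ y ∧ a % p = 1 ∧ b % p = p - 1 ∧
      n + x * a = y * b)

theorem Sol.not_dvd_left {p m n u v : ℕ} (hp : 2 < p) (h : Sol p m n u v) : ¬ p ∣ u := by
  intro hd
  have h1 := Nat.mod_eq_zero_of_dvd hd
  rcases h with ⟨h2, -⟩ | ⟨h2, -⟩ <;> omega

theorem Sol.not_dvd_right {p e n u v : ℕ} (he : 0 < e) (hep : e < p - 1) (hn : n < e)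
    (h : Sol p (e - n) n u v) : ¬ p ∣ v := by
  have hp0 : 0 < p := by omega
  intro hd
  have hpe : ¬ p ∣ e := fun h => absurd (Nat.le_of_dvd he h) (by omega)
  apply hpe
  rcases h with ⟨h2, h3⟩ | ⟨h2, h3⟩
  · -- `v ≡ (e - n) + n`
    have h4 : v ≡ e [MOD p] := by
      rw [h3]
      have h5 : u ≡ 1 [MOD p] := by
        show u % p = 1 % p
        rw [h2, Nat.mod_eq_of_lt (by omega)]
      have h6 : (e - n) * u + n ≡ (e - n) * 1 + n [MOD p] := (h5.mul_left _).add_right _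
      rwa [mul_one, Nat.sub_add_cancel hn.le] at h6
    exact (Nat.modEq_zero_iff_dvd.1 ((h4.symm).trans (Nat.modEq_zero_iff_dvd.2 hd)))
  · have h5 : u + 1 ≡ 0 [MOD p] := by
      show (u + 1) % p = 0 % p
      rw [Nat.add_mod, h2, Nat.mod_eq_of_lt (show 1 < p by omega), show p - 1 + 1 = p by omega, Nat.mod_self,
        Nat.zero_mod]
    have h6 : (e - n) * (u + 1) ≡ 0 [MOD p] := by
      have := h5.mul_left (e - n)
      rwa [mul_zero] at this
    have h7 : (e - n) * (u + 1) = v + e := by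
      rw [mul_add, ← h3]
      omega
    rw [h7] at h6
    exact (Nat.dvd_add_right hd).1 (Nat.modEq_zero_iff_dvd.1 h6)

theorem main {G : Type u} [Group G] [Finite G] {M : Subgroup G} (c : Ctx M) {p N : ℕ} [hp : Fact p.Prime] (hp5 : 5 ≤ p)
    (hN : Nat.card G = N) (hlt : p < N) (h5 : (charDegrees G).ncard < 5)
    (hdz : ∃ d ∈ charDegrees G, p ∣ d) (P : Sylow p G) (hP : Nat.card (P : Subgroup G) = p) {e : ℕ}
    (he : (Subgroup.centralizer ((P : Subgroup G) : Set G)).relIndex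
      (Subgroup.normalizer ((P : Subgroup G) : Set G)) = e) :
    e ∣ p - 1 ∧ ∃ a b d : ℕ, charDegrees G ⊆ {1, a, b, d} ∧ a ≠ b ∧ p ∣ d ∧ a ∈ charDegrees G ∧ b ∈ charDegrees G ∧
      d ∈ charDegrees G ∧ a ≠ 1 ∧ b ≠ 1 ∧ a ≠ 2 ∧ b ≠ 2 ∧ Form p e M.index a b := by
  have hp2 : p ≠ 2 := by omega
  have hcard : ¬ Nat.card G ∣ p := fun h => absurd (Nat.le_of_dvd hp.out.pos h) (by omega)
  obtain ⟨he2, hep, hrel⟩ := c.rel hp2 P hP hcard he
  refine ⟨hep, ?_⟩
  obtain ⟨a, b, d, hcd, ha, hb, hd, hab, had, hbd, hpd, ha', hb'⟩ :=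
    Cfsg.Agent.H604.FD.Inner.exists_three hp.out h5 hdz
  have hR := hrel a b d hcd ha hb hd hab had hbd
  have hlep : e ≤ p - 1 := Nat.le_of_dvd (by omega) hep
  -- the degree divisible by `p`
  have hdG : ¬ p ∣ a → ¬ p ∣ b → d ∈ charDegrees G := by
    intro h1 h2
    obtain ⟨t, ht, hpt⟩ := hdz
    have h3 := hcd ht
    simp only [Set.mem_insert_iff, Set.mem_singleton_iff] at h3
    rcases h3 with rfl | rfl | rfl | rfl
    · exact absurd (Nat.dvd_one.1 hpt) hp.out.one_lt.ne'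
    · exact absurd hpt h1
    · exact absurd hpt h2
    · exact ht
  have hne2 : ∀ {t : ℕ}, t ∈ charDegrees G → t ≠ 2 := by
    rintro t ⟨χ, rfl⟩
    exact c.ne_two χ
  have hcd' : charDegrees G ⊆ {1, b, a, d} := by
    intro t ht
    have := hcd ht
    simp only [Set.mem_insert_iff, Set.mem_singleton_iff] at this ⊢
    tauto
  rcases Nat.lt_or_ge e (p - 1) with hlt' | hge
  · obtain ⟨n, h1, h2, h3⟩ := relE hp.out he2 hlt' hpd hR
    rcases h3 with ⟨h3, h4⟩ | ⟨h3, h4⟩
    · exfalso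
      have hidx := c.idx_le
      have he2' : e = 2 := by omega
      rcases h4 with h4 | h4
      · have h5 : ¬ p ∣ a := fun h => absurd (Nat.le_of_dvd (by omega) h) (by omega)
        exact hne2 (ha'.resolve_right h5) (by omega)
      · have h5 : ¬ p ∣ b := fun h => absurd (Nat.le_of_dvd (by omega) h) (by omega)
        exact hne2 (hb'.resolve_right h5) (by omega)
    · rcases h4 with h4 | h4
      · have h6 := h4.not_dvd_left (by omega)
        have h7 := h4.not_dvd_right (by omega) hlt' h3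
        have ha'' := ha'.resolve_right h6
        have hb'' := hb'.resolve_right h7
        exact ⟨a, b, d, hcd, hab, hpd, ha'', hb'', hdG h6 h7, ha, hb, hne2 ha'', hne2 hb'',
          Or.inl ⟨he2, hlt', n, h1, h2, h3, h4⟩⟩
      · have h6 := h4.not_dvd_left (by omega)
        have h7 := h4.not_dvd_right (by omega) hlt' h3
        have ha'' := ha'.resolve_right h7
        have hb'' := hb'.resolve_right h6
        exact ⟨b, a, d, hcd', hab.symm, hpd, hb'', ha'', hdG h7 h6, hb, ha, hne2 hb'', hne2 ha'',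
          Or.inl ⟨he2, hlt', n, h1, h2, h3, h4⟩⟩
  · have hee : e = p - 1 := by omega
    rw [hee] at hR
    obtain ⟨n, x, y, h1, h2, h3, h4, h5, h6⟩ := relF hp.out hp5 c.idx_le hpd hR
    have hmod : ∀ {t : ℕ}, (t % p = 1 ∨ t % p = p - 1) → ¬ p ∣ t := by
      intro t ht hd
      have := Nat.mod_eq_zero_of_dvd hd
      omega
    rcases h6 with ⟨h6, h7, h8⟩ | ⟨h6, h7, h8⟩
    · have ha'' := ha'.resolve_right (hmod (Or.inl h6))
      have hb'' := hb'.resolve_right (hmod (Or.inr h7))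
      exact ⟨a, b, d, hcd, hab, hpd, ha'', hb'', hdG (hmod (Or.inl h6)) (hmod (Or.inr h7)), ha, hb, hne2 ha'', hne2 hb'',
        Or.inr ⟨hee, n, x, y, h1, h2, h3, h4, h5, h6, h7, h8⟩⟩
    · have ha'' := ha'.resolve_right (hmod (Or.inr h7))
      have hb'' := hb'.resolve_right (hmod (Or.inl h6))
      exact ⟨b, a, d, hcd', hab.symm, hpd, hb'', ha'', hdG (hmod (Or.inr h7)) (hmod (Or.inl h6)), hb, ha, hne2 hb'',
        hne2 ha'', Or.inr ⟨hee, n, y, x, h1, h2, by omega, h5, h4, h6, h7, h8⟩⟩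

end Cfsg.Agent.H590.Five
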