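import Cfsg.Agent.H590.Five.Tools
import Cfsg.Agent.H690.Spor.ONRow

/-!
# Five character degrees: almost simple groups with socle the O'Nan group (helper590, for S4898)

The degrees prime to 19, the degrees prime to 11, and the relations for 31 and 5.
-/

set_option autoImplicit false

namespace Cfsg.Agent.H590.Five.ONRow

open Cfsg Cfsg.Agent.H590.Five Cfsg.Agent.H590.Five.Tools
open Cfsg.Agent.H604.FD.Inner (chkD chkD_spec)

universe u

def L19 : List (ℕ × ℕ) := [(1, 2), (1, 3), (1, 6), (1, 9), (1, 18), (18, 16), (18, 35), (18, 70), (18, 124), (20, 18),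
  (20, 21), (20, 22), (20, 341), (56, 54), (56, 55), (56, 279), (77, 155), (77, 310), (77, 360), (96, 98), (343, 132),
  (495, 496), (512, 1023), (512, 2046)]

def L11 : List (ℕ × ℕ) := [(1, 2), (1, 5), (1, 10), (10, 9), (10, 28), (12, 10), (12, 38), (12, 49), (12, 98),
  (21, 20), (32, 31), (54, 160), (56, 57), (144, 434), (342, 98), (342, 343), (1519, 1520)]

theorem chk19 : chkD (chkForm (2 * 460815505920) 19 [2, 3, 6, 9] [1, 2] true (memL L19))
    [(2, 10), (3, 4), (5, 1), (7, 3), (11, 1), (31, 1)] 1 = true := by decide +kernel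

theorem chk11 : chkD (chkForm (2 * 460815505920) 11 [2, 5] [1, 2] true (memL L11))
    [(2, 10), (3, 4), (5, 1), (7, 3), (19, 1), (31, 1)] 1 = true := by decide +kernel

/-- both pairs coincide -/
theorem comb1 : ∀ x ∈ L19, ∀ y ∈ L11, x.1 ≠ 1 → ((y.1 = x.1 ∧ y.2 = x.2) ∨ (y.1 = x.2 ∧ y.2 = x.1)) →
    x = (20, 21) := by decide +kernel

/-- the pairs have one common degree -/
theorem comb2 : ∀ x ∈ L19, ∀ y ∈ L11, y.1 ≠ 1 → y.2 = x.1 → 19 ∣ y.1 → 11 ∣ x.2 → x = (343, 132) ∧ y.1 = 342 := by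
  decide +kernel

theorem comb3 : ∀ x ∈ L19, ∀ y ∈ L11, y.1 ≠ 1 → y.2 = x.2 → 19 ∣ y.1 → ¬ 11 ∣ x.1 := by
  decide +kernel

theorem comb4 : ∀ x ∈ L19, ∀ y ∈ L11, y.1 ≠ 1 → y.1 = x.1 → 19 ∣ y.2 → 11 ∣ x.2 → x = (56, 55) ∧ y.2 = 57 := by
  decide +kernel

theorem comb5 : ∀ x ∈ L19, ∀ y ∈ L11, y.1 ≠ 1 → y.1 = x.2 → 19 ∣ y.2 → ¬ 11 ∣ x.1 := by
  decide +kernel

theorem five_ON {G : Type u} [Group G] [Finite G] (M : Subgroup G) (hM : M.Normal)
    (hc : Subgroup.centralizer (M : Set G) = ⊥) (h : Cfsg.Spor.IsoON M) : 5 ≤ (Cfsg.charDegrees G).ncard := by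
  obtain ⟨e⟩ := h
  have hK : Nat.card Cfsg.Spor.ON = 460815505920 := Cfsg.Agent.KFacts.ON.OneClass.card_ON
  have : Finite Cfsg.Spor.ON := Nat.finite_of_card_ne_zero (by rw [hK]; norm_num)
  have hs : IsSimpleGroup Cfsg.Spor.ON := Cfsg.Agent.KFacts.ON.OneClass.hs
  have c : Setup.Ctx M := Setup.Ctx.of_iso hs e hM hc Cfsg.Agent.S2078.result (by rw [hK]; norm_num)
  have hMc : Nat.card M = 460815505920 := by rw [Nat.card_congr e.toEquiv, hK]
  have f11 : Fact (Nat.Prime 11) := ⟨by norm_num⟩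
  have f19 : Fact (Nat.Prime 19) := ⟨by norm_num⟩
  by_contra hcon
  rw [not_le] at hcon
  obtain ⟨a, b, d, hcd, hab, hpd, ha, hb, hd, ha1, hb1, ha2, hb2, hpa, hpb, hQ⟩ := pairs c e hK (p := 19)
    (by norm_num) (by norm_num) (by norm_num) (by norm_num) (by norm_num) hcon
    (exists_dvd_of_hasDZ (by norm_num) Cfsg.Agent.H713.Spor.ON.hasDZ_19 (by rw [hK]; norm_num)) [2, 3, 6, 9]
    (by decide +kernel) (by decide) (by norm_num) chk19
  obtain ⟨a', b', d', hcd', hab', hpd', ha', hb', hd', ha1', hb1', ha2', hb2', hpa', hpb', hQ'⟩ := pairs c e hK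
    (p := 11) (by norm_num) (by norm_num) (by norm_num) (by norm_num) (by norm_num) hcon
    (exists_dvd_of_hasDZ (by norm_num) Cfsg.Agent.H690.Spor.ONRow.hasDZ_11 (by rw [hK]; norm_num)) [2, 5]
    (by decide +kernel) (by decide) (by norm_num) chk11
  have hx := memL_spec hQ
  have hy := memL_spec hQ'
  have hd1 : d ≠ 1 := by rintro rfl; norm_num at hpd
  have hd1' : d' ≠ 1 := by rintro rfl; norm_num at hpd'
  have had : a ≠ d := by rintro rfl; exact hpa hpd
  have hbd : b ≠ d := by rintro rfl; exact hpb hpd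
  have hmem : ∀ t ∈ charDegrees G, t ≠ 1 → t = a ∨ t = b ∨ t = d := by
    intro t ht ht1
    have := hcd ht
    simp only [Set.mem_insert_iff, Set.mem_singleton_iff] at this
    tauto
  obtain ⟨e5, he5, -, hR5⟩ := relq c hMc (q := 5) (by norm_num) (by norm_num) (by norm_num) (by norm_num)
    (by norm_num)
  obtain ⟨e31, he31, -, hR31⟩ := relq c hMc (q := 31) (by norm_num) (by norm_num) (by norm_num) (by norm_num)
    (by norm_num)
  have hR5 := hR5 a b d hcd ha1 hb1 hd1 hab had hbd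
  have hR31 := hR31 a b d hcd ha1 hb1 hd1 hab had hbd
  have hidx := c.idx_le
  have hc1 := comb1 _ hx _ hy ha1
  have hc2 := comb2 _ hx _ hy ha1'
  have hc3 := comb3 _ hx _ hy ha1'
  have hc4 := comb4 _ hx _ hy ha1'
  have hc5 := comb5 _ hx _ hy ha1'
  simp only [Prod.mk.injEq] at hc1 hc2 hc4
  -- the third degree for 11
  have key : (a = 20 ∧ b = 21 ∧ 11 ∣ d) ∨ (a = 343 ∧ b = 132 ∧ d = 342) ∨ (a = 56 ∧ b = 55 ∧ d = 57) := by
    rcases hmem a' ha' ha1' with h1 | h1 | h1 <;> rcases hmem b' hb' hb1' with h2 | h2 | h2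
    · exact absurd (h1.trans h2.symm) hab'
    · obtain ⟨h3, h4⟩ := hc1 (Or.inl ⟨h1, h2⟩)
      left
      refine ⟨h3, h4, ?_⟩
      rcases hmem d' hd' hd1' with h5 | h5 | h5
      · rw [h5, h3] at hpd'; norm_num at hpd'
      · rw [h5, h4] at hpd'; norm_num at hpd'
      · rwa [h5] at hpd'
    · -- `a' = a`, `b' = d`, `d' = b`
      rcases hmem d' hd' hd1' with h5 | h5 | h5
      · rw [h5, ← h1] at hpd'; exact absurd hpd' hpa'
      · obtain ⟨h3, h4⟩ := hc4 h1 (by rwa [h2]) (by rwa [← h5])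
        right; right
        exact ⟨h3.1, h3.2, by rw [← h2, h4]⟩
      · rw [h5, ← h2] at hpd'; exact absurd hpd' hpb'
    · obtain ⟨h3, h4⟩ := hc1 (Or.inr ⟨h1, h2⟩)
      left
      refine ⟨h3, h4, ?_⟩
      rcases hmem d' hd' hd1' with h5 | h5 | h5
      · rw [h5, h3] at hpd'; norm_num at hpd'
      · rw [h5, h4] at hpd'; norm_num at hpd'
      · rwa [h5] at hpd'
    · exact absurd (h1.trans h2.symm) hab'
    · -- `a' = b`, `b' = d`, `d' = a`
      rcases hmem d' hd' hd1' with h5 | h5 | h5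
      · exact absurd (by rwa [← h5]) (hc5 h1 (by rwa [h2]))
      · rw [h5, ← h1] at hpd'; exact absurd hpd' hpa'
      · rw [h5, ← h2] at hpd'; exact absurd hpd' hpb'
    · -- `a' = d`, `b' = a`, `d' = b`
      rcases hmem d' hd' hd1' with h5 | h5 | h5
      · rw [h5, ← h2] at hpd'; exact absurd hpd' hpb'
      · obtain ⟨h3, h4⟩ := hc2 h2 (by rwa [h1]) (by rwa [← h5])
        right; left
        exact ⟨h3.1, h3.2, by rw [← h1, h4]⟩
      · rw [h5, ← h1] at hpd'; exact absurd hpd' hpa'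
    · -- `a' = d`, `b' = b`, `d' = a`
      rcases hmem d' hd' hd1' with h5 | h5 | h5
      · exact absurd (by rwa [← h5]) (hc3 h2 (by rwa [h1]))
      · rw [h5, ← h2] at hpd'; exact absurd hpd' hpb'
      · rw [h5, ← h1] at hpd'; exact absurd hpd' hpa'
    · exact absurd (h1.trans h2.symm) hab'
  rcases key with ⟨rfl, rfl, h11⟩ | ⟨rfl, rfl, rfl⟩ | ⟨rfl, rfl, rfl⟩
  · -- the relation for 31
    have h209 : 209 ∣ d := (Nat.Coprime.mul_dvd_of_dvd_of_dvd (by norm_num : Nat.Coprime 19 11) hpd h11)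
    have hd0 : d ≠ 0 := by
      rintro rfl
      obtain ⟨χ, hχ⟩ := hd
      exact absurd hχ (Cfsg.Agent.Blocks.Basic.charDegree_pos χ.2).ne'
    have hle := Nat.le_of_dvd (Nat.pos_of_ne_zero hd0) h209
    have := hR31.le_of_one (by norm_num) he31 hidx (by norm_num) (by norm_num) (by omega) (by norm_num) (by norm_num)
      (by norm_num) (by norm_num)
    omega
  · exact hR5.not_none (by norm_num) he5 hidx (by norm_num) (by norm_num) (by norm_num) (by norm_num) (by norm_num)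
      (by norm_num) (by norm_num) (by norm_num) (by norm_num)
  · exact hR31.not_none (by norm_num) he31 hidx (by norm_num) (by norm_num) (by norm_num) (by norm_num) (by norm_num)
      (by norm_num) (by norm_num) (by norm_num) (by norm_num)

end Cfsg.Agent.H590.Five.ONRow
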