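import Cfsg.Agent.H590.Five.Blk2
import Cfsg.Agent.H590.Five.Setup
import Cfsg.Agent.H604.FD.Inner

/-!
# The degree relation of the principal block for almost simple groups (helper590)

* `Rel p e idx a b c` : the relation;
* `Ctx.rel` : it holds for `e = |N(P) : C(P)| ≥ 2`, `e ∣ p - 1`, if the degrees of `G` lie in `{1, a, b, c}`.
-/

set_option autoImplicit false

namespace Cfsg.Agent.H590.Five

open Cfsg Cfsg.Agent.H590.Five.Setup

universe u

/-- The relation between the degrees `1, a, b, c` in a principal block with a defect group of order `p`. -/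
def Rel (p e idx a b c : ℕ) : Prop :=
  ∃ (n₁ na nb nc : ℕ) (sa sb sc s : ℤ) (f : ℕ), 1 ≤ n₁ ∧ n₁ ≤ idx ∧ (f = 1 → n₁ + 1 ≤ idx) ∧
    n₁ + na + nb + nc = e ∧ (sa = 1 ∨ sa = -1) ∧ (sb = 1 ∨ sb = -1) ∧ (sc = 1 ∨ sc = -1) ∧ (s = 1 ∨ s = -1) ∧
    (na ≠ 0 → (p : ℤ) ∣ sa * a - 1) ∧ (nb ≠ 0 → (p : ℤ) ∣ sb * b - 1) ∧
    (nc ≠ 0 → (p : ℤ) ∣ sc * c - 1) ∧ (f = 1 ∨ f = a ∨ f = b ∨ f = c) ∧ (p : ℤ) ∣ f + e * s ∧
    n₁ + sa * na * a + sb * nb * b + sc * nc * c + s * f = 0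

theorem two_le {G : Type u} [Group G] [Finite G] {p : ℕ} [hp : Fact p.Prime] (P : Sylow p G)
    (hP : Nat.card (P : Subgroup G) = p) (hN : ∀ N : Subgroup G, N.Normal → N.index ≠ p) :
    2 ≤ (Subgroup.centralizer ((P : Subgroup G) : Set G)).relIndex (Subgroup.normalizer ((P : Subgroup G) : Set G)) := by
  have h0 : (Subgroup.centralizer ((P : Subgroup G) : Set G)).relIndex
      (Subgroup.normalizer ((P : Subgroup G) : Set G)) ≠ 0 := Subgroup.index_ne_zero_of_finite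
  have h1 : (Subgroup.centralizer ((P : Subgroup G) : Set G)).relIndex
      (Subgroup.normalizer ((P : Subgroup G) : Set G)) ≠ 1 := by
    intro h
    have hle := Subgroup.relIndex_eq_one.1 h
    have h2 := MonoidHom.ker_transferSylow_isComplement' P hle
    exact hN _ inferInstance (h2.symm.index_eq_card.trans hP)
  omega

theorem _root_.Cfsg.Agent.H590.Five.Setup.Ctx.rel {G : Type u} [Group G] [Finite G] {M : Subgroup G} (c : Ctx M)
    {p : ℕ} [hp : Fact p.Prime] (hp2 : p ≠ 2) (P : Sylow p G) (hP : Nat.card (P : Subgroup G) = p)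
    (hcard : ¬ Nat.card G ∣ p) {e : ℕ}
    (he : (Subgroup.centralizer ((P : Subgroup G) : Set G)).relIndex
      (Subgroup.normalizer ((P : Subgroup G) : Set G)) = e) :
    2 ≤ e ∧ e ∣ p - 1 ∧ ∀ a b d : ℕ, charDegrees G ⊆ {1, a, b, d} → a ≠ 1 → b ≠ 1 → d ≠ 1 → a ≠ b → a ≠ d → b ≠ d →
      Rel p e M.index a b d := by
  have hN := c.index_ne hp.out hp2 hcard
  have hidx : (commutator G).index ≤ M.index :=
    Nat.le_of_dvd (Nat.pos_of_ne_zero Subgroup.index_ne_zero_of_finite) c.index_comm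
  refine ⟨he ▸ two_le P hP hN, he ▸ Cfsg.Agent.H604.FD.Inner.relIndex_dvd hp.out hP, ?_⟩
  intro a b d hcd ha hb hd hab had hbd
  obtain ⟨-, n₁, na, nb, nc, sa, sb, sc, s, f, h1, h2, h3, h4, h5, h6, h7, h8, h9, h10, h11, h12, h13, h14⟩ :=
    Blk2.degs hp2 P (isCyclic_of_prime_card hP) le_rfl (by rw [pow_one]; exact hP) he hN hcd ha hb hd hab had hbd
  rw [pow_one] at h9 h10 h11 h13
  exact ⟨n₁, na, nb, nc, sa, sb, sc, s, f, h1, h2.trans hidx, fun h => (h3 h).trans hidx, h4, h5, h6, h7, h8, h9, h10,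
    h11, h12, h13, h14⟩

end Cfsg.Agent.H590.Five
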