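import Cfsg.Agent.H590.Five.Check

/-!
# Consequences of the degree relation with few degrees congruent to `±1` (helper590)

* `Rel.not_none` : one of the degrees is congruent to `±1`;
* `Rel.le_of_one` : if only `d` is, then `d ≤ max(3, a + 2, b + 2)`;
* `memL`, `memL_spec` : membership in a list of pairs, for the checks.
-/

set_option autoImplicit false

namespace Cfsg.Agent.H590.Five

/-- membership in a list of pairs -/
def memL (L : List (ℕ × ℕ)) (u v : ℕ) : Bool := L.any fun x => Nat.beq x.1 u && Nat.beq x.2 v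

theorem memL_spec {L : List (ℕ × ℕ)} {u v : ℕ} (h : memL L u v = true) : (u, v) ∈ L := by
  unfold memL at h
  rw [List.any_eq_true] at h
  obtain ⟨x, hx, h⟩ := h
  rw [Bool.and_eq_true] at h
  have h1 := Nat.eq_of_beq_eq_true h.1
  have h2 := Nat.eq_of_beq_eq_true h.2
  rw [← h1, ← h2]
  exact hx

theorem mult_zero {p a n : ℕ} {s : ℤ} (hp : 2 < p) (hs : s = 1 ∨ s = -1) (h : n ≠ 0 → (p : ℤ) ∣ s * a - 1)
    (h1 : a % p ≠ 1) (h2 : a % p ≠ p - 1) : n = 0 := by
  by_contra h0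
  have h3 := h h0
  rcases hs with rfl | rfl
  · rw [one_mul] at h3
    exact h1 (mod_of_sub hp h3)
  · have h4 : (p : ℤ) ∣ (a : ℤ) + 1 := by
      have := dvd_neg.2 h3
      rwa [show -(-1 * (a : ℤ) - 1) = a + 1 by ring] at this
    exact h2 (mod_of_add hp h4)

theorem Rel.not_none {q e idx a b d : ℕ} (hq : 2 < q) (he : 2 ≤ e) (hidx : idx ≤ 2) (ha : a ≠ 2)
    (hb : b ≠ 2) (hd : d ≠ 2) (h : Rel q e idx a b d) (h1 : a % q ≠ 1) (h2 : a % q ≠ q - 1)
    (h3 : b % q ≠ 1) (h4 : b % q ≠ q - 1) (h5 : d % q ≠ 1) (h6 : d % q ≠ q - 1) : False := by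
  obtain ⟨n₁, na, nb, nc, sa, sb, sc, s, f, g1, g2, -, g4, hsa, hsb, hsc, hs, hna, hnb, hnc, hf, hfe, heq⟩ := h
  have k1 := mult_zero hq hsa hna h1 h2
  have k2 := mult_zero hq hsb hnb h3 h4
  have k3 := mult_zero hq hsc hnc h5 h6
  clear hsa hsb hsc hna hnb hnc hfe
  rw [k1, k2, k3] at heq g4
  have hn : n₁ = 2 := by
    clear heq hf
    omega
  rw [hn] at heq
  have h7 : (2 : ℤ) + s * f = 0 := by
    push_cast at heq
    linarith
  have h8 : f = 2 := by rcases hs with hs | hs <;> rw [hs] at h7 <;> omega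
  rcases hf with hf | hf | hf | hf <;> omega

/-- Only `d` is congruent to `±1`. -/
theorem Rel.le_of_one {q e idx a b d : ℕ} (hq : 2 < q) (he : 2 ≤ e) (hidx : idx ≤ 2) (ha : a ≠ 2)
    (hb : b ≠ 2) (hd : 3 ≤ d) (h : Rel q e idx a b d)
    (h1 : a % q ≠ 1) (h2 : a % q ≠ q - 1) (h3 : b % q ≠ 1) (h4 : b % q ≠ q - 1) :
    d ≤ 3 ∨ d ≤ a + 2 ∨ d ≤ b + 2 := by
  obtain ⟨n₁, na, nb, nc, sa, sb, sc, s, f, g1, g2, -, g4, hsa, hsb, hsc, hs, hna, hnb, hnc, hf, hfe, heq⟩ := h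
  have k1 := mult_zero hq hsa hna h1 h2
  have k2 := mult_zero hq hsb hnb h3 h4
  clear hsa hsb hna hnb hnc hfe h1 h2 h3 h4 hq
  rw [k1, k2] at heq g4
  have h5 : (n₁ : ℤ) + sc * nc * d + s * f = 0 := by
    push_cast at heq
    linarith
  clear heq k1 k2
  have hn1 : n₁ ≤ 2 := g2.trans hidx
  by_cases h0 : nc = 0
  · rw [h0] at h5 g4
    have hn : n₁ = 2 := by
      clear h5 hf
      omega
    rw [hn] at h5
    have h7 : (2 : ℤ) + s * f = 0 := by
      push_cast at h5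
      linarith
    have h8 : f = 2 := by rcases hs with hs | hs <;> rw [hs] at h7 <;> omega
    rcases hf with hf | hf | hf | hf <;> omega
  obtain ⟨k, rfl⟩ : ∃ k, nc = k + 1 := ⟨nc - 1, by omega⟩
  have h6 : ((k + 1 : ℕ) : ℤ) * d = k * d + d := by push_cast; ring
  have h7 : (0 : ℤ) ≤ k * d := by positivity
  have h9 : (n₁ : ℤ) + sc * (k * d + d) + s * f = 0 := by
    rw [← h6, ← mul_assoc]
    exact h5
  have h10 : (k : ℤ) * d = 0 ∨ (d : ℤ) ≤ k * d := by
    rcases k with _ | k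
    · left; simp
    · right
      have h11 : (1 : ℤ) ≤ ((k + 1 : ℕ) : ℤ) := by push_cast; omega
      have h12 : (0 : ℤ) ≤ d := by positivity
      nlinarith
  obtain ⟨w, hw⟩ : ∃ w : ℤ, w = k * d := ⟨_, rfl⟩
  rw [← hw] at h7 h9 h10
  clear hw h5 h6 g4 h0
  rcases hf with hf | hf | hf | hf
  · left
    rw [hf] at h9
    rcases hsc with hsc | hsc <;> rcases hs with hs | hs <;> rw [hsc, hs] at h9 <;> omega
  · right; left
    rw [hf] at h9
    rcases hsc with hsc | hsc <;> rcases hs with hs | hs <;> rw [hsc, hs] at h9 <;> omega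
  · right; right
    rw [hf] at h9
    rcases hsc with hsc | hsc <;> rcases hs with hs | hs <;> rw [hsc, hs] at h9 <;> omega
  · exfalso
    rw [hf] at h9
    rcases hsc with hsc | hsc <;> rcases hs with hs | hs <;> rw [hsc, hs] at h9 <;> omega

end Cfsg.Agent.H590.Five
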