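import Cfsg.Agent.H590.Five.RelTools
import Cfsg.Agent.H590.Five.Fus

/-!
# Common tools for the rows (helper590)

* `card_dvd`, `card_eq` : the order of `G`;
* `exists_sylow_card` : a Sylow subgroup of prime order;
* `pairs` : the pairs of degrees prime to `p`;
* `relq` : the relation for another prime `q`.
-/

set_option autoImplicit false

namespace Cfsg.Agent.H590.Five.Tools

open Cfsg Cfsg.Agent.H590.Five Cfsg.Agent.H590.Five.Setup
open Cfsg.Agent.H665.NoPQ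
open Cfsg.Agent.H604.FD.Inner (chkD chkD_spec)

universe u v

theorem exists_dvd_of_hasDZ {K : Type v} [Group K] [Finite K] {p : ℕ} (hp : p.Prime) (h : HasDZ p K)
    (hd : p ∣ Nat.card K) : ∃ d ∈ charDegrees K, p ∣ d := by
  obtain ⟨χ, hχ⟩ := h
  refine ⟨_, ⟨χ, rfl⟩, ?_⟩
  refine Nat.dvd_of_factorization_pos ?_
  rw [hχ]
  have := (hp.dvd_iff_one_le_factorization Nat.card_pos.ne').1 hd
  omega

variable {G : Type u} [Group G] [Finite G] {M : Subgroup G}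

omit [Finite G] in
theorem card_eq {n₀ : ℕ} (hM : Nat.card M = n₀) : Nat.card G = n₀ * M.index := by
  rw [← M.card_mul_index, hM]

omit [Finite G] in
theorem card_dvd (c : Ctx M) {n₀ : ℕ} (hM : Nat.card M = n₀) : Nat.card G ∣ 2 * n₀ := by
  rw [card_eq hM, mul_comm 2]
  exact Nat.mul_dvd_mul_left _ c.idx

theorem exists_sylow_card (c : Ctx M) {n₀ p : ℕ} [hp : Fact p.Prime] (hM : Nat.card M = n₀) (hd : p ∣ n₀)
    (hsq : ¬ p ^ 2 ∣ 2 * n₀) : ∃ P : Sylow p G, Nat.card (P : Subgroup G) = p := by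
  have h1 : p ∣ Nat.card G := by
    rw [card_eq hM]
    exact Dvd.dvd.mul_right hd _
  obtain ⟨x, hx⟩ := exists_prime_orderOf_dvd_card' (G := G) p h1
  obtain ⟨P, hP⟩ := exists_sylow hx fun h => hsq (h.trans (card_dvd c hM))
  exact ⟨P, by rw [hP, Nat.card_zpowers, hx]⟩

/-- The pairs of degrees prime to `p`. -/
theorem pairs (c : Ctx M) {K : Type v} [Group K] [Finite K] (e : M ≃* K) {n₀ p : ℕ} (hK : Nat.card K = n₀)
    (hp : p.Prime) (hp5 : 5 ≤ p) (hpd : p ∣ n₀) (hsq : ¬ p ^ 2 ∣ 2 * n₀) (hlt : p < n₀)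
    (h5 : (charDegrees G).ncard < 5) (hdz : ∃ d ∈ charDegrees K, p ∣ d) (es : List ℕ)
    (hes : ((Nat.divisors (p - 1)).filter fun e => 2 ≤ e ∧ e < p - 1) ⊆ es.toFinset)
    {Q : ℕ → ℕ → Bool} {L : List (ℕ × ℕ)} (hL : ∀ x ∈ L, x.1.Prime)
    (hprod : 2 * n₀ = p * (L.map fun x => x.1 ^ x.2).prod)
    (hchk : chkD (chkForm (2 * n₀) p es [1, 2] true Q) L 1 = true) :
    ∃ a b d : ℕ, charDegrees G ⊆ {1, a, b, d} ∧ a ≠ b ∧ p ∣ d ∧ a ∈ charDegrees G ∧ b ∈ charDegrees G ∧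
      d ∈ charDegrees G ∧ a ≠ 1 ∧ b ≠ 1 ∧ a ≠ 2 ∧ b ≠ 2 ∧ ¬ p ∣ a ∧ ¬ p ∣ b ∧ Q a b = true := by
  have : Fact p.Prime := ⟨hp⟩
  have hMc : Nat.card M = n₀ := by rw [Nat.card_congr e.toEquiv, hK]
  obtain ⟨P, hP⟩ := exists_sylow_card c hMc hpd hsq
  have hi0 : M.index ≠ 0 := Subgroup.index_ne_zero_of_finite
  obtain ⟨hep, a, b, d, h1, h2, h3, h4, h5', h6, h7, h8, h9, h10, hF⟩ := main c hp5 (card_eq hMc)
    (lt_of_lt_of_le hlt (Nat.le_mul_of_pos_right _ (Nat.pos_of_ne_zero hi0))) h5 (c.exists_dvd e hdz) P hP rfl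
  have hG := card_dvd c hMc
  have hQ := form_spec (N := 2 * n₀) (p := p) (idx := M.index) hp (by omega) hL hprod hchk (by
      intro n hn1 hn2
      have := c.idx_le
      have : n = 1 ∨ n = 2 := by omega
      rcases this with rfl | rfl <;> simp) (e := _) (by
      rcases hF with ⟨g1, g2, -⟩ | ⟨g1, -⟩
      · right
        refine ⟨g2, List.mem_toFinset.1 (hes ?_)⟩
        rw [Finset.mem_filter, Nat.mem_divisors]
        exact ⟨⟨hep, by omega⟩, g1, g2⟩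
      · exact Or.inl ⟨g1, rfl⟩) ((Cfsg.Agent.H424.DegTools.dvd_card h4).trans hG)
      ((Cfsg.Agent.H424.DegTools.dvd_card h5').trans hG) hF
  have hab : ¬ p ∣ a ∧ ¬ p ∣ b := by
    rcases hF with ⟨g1, g2, n, -, -, g3, hs⟩ | ⟨-, n, x, y, -, -, -, -, -, g1, g2, -⟩
    · exact ⟨hs.not_dvd_left (by omega), hs.not_dvd_right (by omega) g2 g3⟩
    · refine ⟨fun h => ?_, fun h => ?_⟩
      · have := Nat.mod_eq_zero_of_dvd h
        omega
      · have := Nat.mod_eq_zero_of_dvd h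
        omega
  exact ⟨a, b, d, h1, h2, h3, h4, h5', h6, h7, h8, h9, h10, hab.1, hab.2, hQ⟩

/-- The relation for another prime. -/
theorem relq (c : Ctx M) {n₀ q : ℕ} (hM : Nat.card M = n₀) (hq : q.Prime) (hq2 : q ≠ 2) (hd : q ∣ n₀)
    (hsq : ¬ q ^ 2 ∣ 2 * n₀) (hlt : q < n₀) : ∃ e, 2 ≤ e ∧ e ∣ q - 1 ∧ ∀ a b d : ℕ,
      charDegrees G ⊆ {1, a, b, d} → a ≠ 1 → b ≠ 1 → d ≠ 1 → a ≠ b → a ≠ d → b ≠ d → Rel q e M.index a b d := by
  have : Fact q.Prime := ⟨hq⟩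
  obtain ⟨P, hP⟩ := exists_sylow_card c hM hd hsq
  have hi0 : M.index ≠ 0 := Subgroup.index_ne_zero_of_finite
  have hcard : ¬ Nat.card G ∣ q := fun h => by
    have h1 := Nat.le_of_dvd hq.pos h
    rw [card_eq hM] at h1
    have h2 : n₀ ≤ n₀ * M.index := Nat.le_mul_of_pos_right _ (Nat.pos_of_ne_zero hi0)
    omega
  exact ⟨_, c.rel hq2 P hP hcard rfl⟩

theorem ne_two (c : Ctx M) {t : ℕ} (ht : t ∈ charDegrees G) : t ≠ 2 := by
  obtain ⟨χ, rfl⟩ := ht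
  exact c.ne_two χ

end Cfsg.Agent.H590.Five.Tools
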